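import Cfsg.Agent.Lib.ExtFieldThree.Roots
import Mathlib.RingTheory.Norm.Transitivity

/-!
In degree three a single map fixing the orthogonal space of a line gives all roots inside the line: the
alternating forms on the extension are given by its elements, and the torus acts irreducibly on them.
-/

set_option autoImplicit false
set_option linter.unusedSectionVars false

namespace CfsgLib.ExtFieldThree

open Matrix QuadraticMap Module CfsgLib.Orth CfsgLib.ExtFieldOrth

variable {F : Type*} [Field F] [Fintype F] {ι : Type} [Fintype ι] [DecidableEq ι]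
  {L : Type*} [Field L] [Fintype L] [Algebra F L] [Module L (ι → F)] [IsScalarTower F L (ι → F)]
  {q : QuadraticForm F (ι → F)} {τ : L →ₗ[F] F} {u n w : ι → F} {M : Subgroup (O q)}

theorem det_three (e : Basis (Fin 3) F L) (m x y : L) :
    e.det ![m, x, y] =
      e.repr m 0 * (e.repr x 1 * e.repr y 2 - e.repr x 2 * e.repr y 1) +
      e.repr m 1 * (e.repr x 2 * e.repr y 0 - e.repr x 0 * e.repr y 2) +
      e.repr m 2 * (e.repr x 0 * e.repr y 1 - e.repr x 1 * e.repr y 0) := by
  rw [Basis.det_apply, Matrix.det_fin_three]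
  simp only [Basis.toMatrix_apply, Matrix.cons_val_zero, Matrix.cons_val_one, Matrix.cons_val]
  ring

/-- A subfield containing all `(q - 1)`-st powers is everything. -/
theorem mem_of_powers (h3 : finrank F L = 3) (A : Set L) (h0 : (0 : L) ∈ A)
    (hadd : ∀ a ∈ A, ∀ b ∈ A, a + b ∈ A) (hneg : ∀ a ∈ A, -a ∈ A) {m₀ : L} (hm₀ : m₀ ∈ A) (hm₀0 : m₀ ≠ 0)
    (hmul : ∀ x : L, x ≠ 0 → ∀ m ∈ A, x ^ (Fintype.card F - 1) * m ∈ A) (m : L) : m ∈ A := by
  classical
  obtain ⟨K, hK⟩ : ∃ K : Submonoid L, ∀ a, a ∈ K ↔ ∀ m ∈ A, a * m ∈ A :=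
    ⟨{ carrier := {a | ∀ m ∈ A, a * m ∈ A}
       mul_mem' := fun {a b} ha hb m hm => by rw [mul_assoc]; exact ha _ (hb m hm)
       one_mem' := fun m hm => by rwa [one_mul] }, fun a => Iff.rfl⟩
  let T : Subfield L :=
    { carrier := {a | a ∈ K}
      mul_mem' := fun ha hb => K.mul_mem ha hb
      one_mem' := K.one_mem
      add_mem' := fun {a b} ha hb => (hK _).2 fun m hm => by
        rw [add_mul]; exact hadd _ ((hK a).1 ha m hm) _ ((hK b).1 hb m hm)
      zero_mem' := (hK _).2 fun m hm => by rw [zero_mul]; exact h0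
      neg_mem' := fun {a} ha => (hK _).2 fun m hm => by rw [neg_mul]; exact hneg _ ((hK a).1 ha m hm)
      inv_mem' := fun a ha => by
        rcases eq_or_ne a 0 with rfl | ha0
        · rw [_root_.inv_zero]; exact (hK _).2 fun m hm => by rw [zero_mul]; exact h0
        · have e : a⁻¹ = a ^ (Fintype.card L - 2) := by
            refine inv_eq_of_mul_eq_one_right ?_
            rw [← pow_succ', show Fintype.card L - 2 + 1 = Fintype.card L - 1 by
              have := Fintype.one_lt_card (α := L); omega]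
            exact FiniteField.pow_card_sub_one_eq_one a ha0
          rw [e]; exact K.pow_mem ha _ }
  suffices htop : T = ⊤ by
    have h1 : m / m₀ ∈ T := htop ▸ Subfield.mem_top _
    have h2 := (hK _).1 h1 m₀ hm₀
    rwa [div_mul_cancel₀ _ hm₀0] at h2
  by_contra hne
  have h2 : 2 ≤ finrank T L := by
    by_contra hlt
    have hpos : 0 < finrank T L := Module.finrank_pos
    have e1 : finrank T L = 1 := by omega
    refine hne (eq_top_iff.2 fun x _ => ?_)
    obtain ⟨c, hc⟩ := (finrank_eq_one_iff_of_nonzero' (1 : L) one_ne_zero).1 e1 x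
    rw [← hc]
    change (c : L) * 1 ∈ T
    rw [mul_one]
    exact c.2
  have hcard : Fintype.card L = Fintype.card T ^ finrank T L := Module.card_eq_pow_finrank
  have hcardF : Fintype.card L = Fintype.card F ^ 3 := by rw [Module.card_eq_pow_finrank (K := F), h3]
  have hpow : ∀ x : Lˣ, x ^ ((Fintype.card F - 1) * (Fintype.card T - 1)) = 1 := fun x => Units.ext (by
    have hx : (x : L) ^ (Fintype.card F - 1) ∈ T := (hK _).2 fun m hm => hmul _ x.ne_zero m hm
    have h1 := FiniteField.pow_card_sub_one_eq_one (⟨_, hx⟩ : T)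
      (fun h => pow_ne_zero (Fintype.card F - 1) x.ne_zero (congrArg Subtype.val h))
    rw [Units.val_pow_eq_pow_val, Units.val_one, pow_mul]
    exact congrArg Subtype.val h1)
  have hdvd := (FiniteField.forall_pow_eq_one_iff L _).1 hpow
  have hF : 2 ≤ Fintype.card F := Fintype.one_lt_card
  have hT : 2 ≤ Fintype.card T := Fintype.one_lt_card
  have hle := Nat.le_of_dvd (Nat.mul_pos (by omega) (by omega)) hdvd
  have hsq : Fintype.card T ^ 2 ≤ Fintype.card F ^ 3 := by
    rw [← hcardF, hcard]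
    exact Nat.pow_le_pow_right (by omega) h2
  rw [hcardF] at hle
  obtain ⟨a, ha⟩ : ∃ a, Fintype.card F = a + 1 := ⟨Fintype.card F - 1, by omega⟩
  obtain ⟨b, hb⟩ : ∃ b, Fintype.card T = b + 1 := ⟨Fintype.card T - 1, by omega⟩
  rw [ha, hb] at hsq
  rw [ha, hb, Nat.add_sub_cancel, Nat.add_sub_cancel] at hle
  have h5 : (a + 1) ^ 3 = a * (a ^ 2 + 3 * a + 3) + 1 := by ring
  rw [h5, Nat.add_sub_cancel] at hle
  have hb' : a ^ 2 + 3 * a + 3 ≤ b := Nat.le_of_mul_le_mul_left hle (by omega)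
  nlinarith

variable (S : Setup q τ)
include S

theorem skew_wedge (c d : L) : Skew τ (wedge τ c d) := fun s e => by
  simp only [wedge_apply, sub_mul, mul_sub, smul_mul_assoc, mul_smul_comm, map_sub, map_smul, smul_eq_mul,
    mul_comm s c, mul_comm s d]
  ring

theorem exists_form {b : L →ₗ[F] L} (hb : Skew τ b) (e : Basis (Fin 3) F L) :
    ∃ m, ∀ x y, τ (y * b x) = e.det ![m, x, y] := by
  refine ⟨τ (e 2 * b (e 1)) • e 0 + τ (e 0 * b (e 2)) • e 1 + τ (e 1 * b (e 0)) • e 2, fun x y => ?_⟩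
  have hsk : ∀ i j, τ (e i * b (e j)) = -τ (e j * b (e i)) := fun i j => by
    have h1 := hb (e i) (e j)
    rw [mul_comm (b (e i))] at h1
    exact eq_neg_of_add_eq_zero_right h1
  have hd : ∀ i, τ (e i * b (e i)) = 0 := fun i => by
    have h1 := hb (e i) (e i)
    rw [mul_comm (b (e i)), ← two_mul] at h1
    exact (mul_eq_zero.1 h1).resolve_left S.two
  rw [det_three]
  conv_lhs => rw [← e.sum_repr x, ← e.sum_repr y]
  simp only [Fin.sum_univ_three, map_add, map_smul, smul_mul_assoc, mul_smul_comm, add_mul, mul_add, smul_eq_mul,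
    hd, hsk 1 2, hsk 2 0, hsk 0 1, e.repr_self, Finsupp.add_apply, Finsupp.smul_apply]
  simp
  ring

variable (H : Frame q τ u n w)
include H

/-- All roots inside the line, in degree three. -/
theorem lineRoots_cubic (hM : HasLin L M) (h3 : finrank F L = 3) {z : O q} (hz : z ∈ M) (hz1 : z ≠ 1)
    (hfix : ∀ x, kb q τ u x = 0 → app z x = x) : LineRoots L M u := by
  have := S.finite
  obtain ⟨e, -⟩ : ∃ e : Basis (Fin 3) F L, e = Module.finBasisOfFinrankEq F L h3 := ⟨_, rfl⟩
  obtain ⟨b, hrep, hskew⟩ := exists_rep S H hfix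
  obtain ⟨A, hA⟩ : ∃ A : Set L, ∀ m, m ∈ A ↔
      ∃ b, Realised q τ M u b ∧ ∀ x y, τ (y * b x) = e.det ![m, x, y] :=
    ⟨{m | ∃ b, Realised q τ M u b ∧ ∀ x y, τ (y * b x) = e.det ![m, x, y]}, fun m => Iff.rfl⟩
  obtain ⟨m₀, hm₀⟩ := exists_form S hskew e
  have hm₀0 : m₀ ≠ 0 := fun h => hz1 (hrep.ext (by
    have hb : b = 0 := LinearMap.ext fun x => S.ext_tau fun y => by
      rw [hm₀, h, det_three]
      simp
    exact hb ▸ rep_one S))
  have h0 : (0 : L) ∈ A := (hA 0).2 ⟨0, ⟨1, M.one_mem, rep_one S⟩, fun x y => by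
    rw [det_three]; simp⟩
  have hadd : ∀ a ∈ A, ∀ b ∈ A, a + b ∈ A := fun a ha a' ha' => by
    obtain ⟨b, hb, hb'⟩ := (hA a).1 ha
    obtain ⟨c, hc, hc'⟩ := (hA a').1 ha'
    refine (hA _).2 ⟨b + c, hb.add S H.uu hc, fun x y => ?_⟩
    rw [LinearMap.add_apply, mul_add, map_add, hb', hc', det_three, det_three, det_three, map_add]
    simp only [Finsupp.add_apply]
    ring
  have hneg : ∀ a ∈ A, -a ∈ A := fun a ha => by
    obtain ⟨b, ⟨g, hg, hr⟩, hb'⟩ := (hA a).1 ha
    refine (hA _).2 ⟨-b, ⟨g⁻¹, M.inv_mem hg, hr.inv S H.uu⟩, fun x y => ?_⟩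
    rw [LinearMap.neg_apply, mul_neg, map_neg, hb', det_three, det_three, map_neg]
    simp only [Finsupp.neg_apply]
    ring
  have hodd : Odd (Fintype.card F) := Nat.odd_iff.2
    (FiniteField.odd_card_of_char_ne_two fun h => S.two (by
      have : CharP F 2 := ringChar.of_eq h
      exact CharTwo.two_eq_zero))
  have hmul : ∀ x : L, x ≠ 0 → ∀ m ∈ A, x ^ (Fintype.card F - 1) * m ∈ A := fun x hx m hm => by
    obtain ⟨t, ht⟩ := hodd
    obtain ⟨b, ⟨g, hg, hr⟩, hb'⟩ := (hA m).1 hm
    obtain ⟨k, hk⟩ : ∃ k, k = x⁻¹ ^ t := ⟨_, rfl⟩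
    have hk0 : k ≠ 0 := by rw [hk]; exact pow_ne_zero _ (inv_ne_zero hx)
    obtain ⟨h, hh, hhl, hhu, -⟩ := S.exists_scale_elem hM hk0 H.uu H.ww H.uw
    have hxk : x ^ (Fintype.card F - 1) = (k * k)⁻¹ := by
      rw [hk, ← pow_add, ← inv_pow, inv_inv, show Fintype.card F - 1 = t + t by omega]
    have hN : Algebra.norm F (k * k) = 1 := by
      rw [hk, ← pow_add, map_pow, show t + t = Fintype.card F - 1 by omega]
      exact FiniteField.pow_card_sub_one_eq_one _ (Algebra.norm_ne_zero_iff.2 (inv_ne_zero hx))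
    refine (hA _).2 ⟨LinearMap.mulLeft F (k * k) ∘ₗ b ∘ₗ LinearMap.mulLeft F (k * k),
      ⟨h * g * h⁻¹, M.mul_mem (M.mul_mem hh hg) (M.inv_mem hh), fun v => ?_⟩, fun s y => ?_⟩
    · have e1 : kb q τ (app h⁻¹ v) u = k * k * kb q τ v u := by
        rw [← kb_app S hhl, app_app_inv, hhu, S.kb_smul_right]
      rw [app_mul, app_mul, hr, map_add, app_app_inv, hhl, hhu, e1, smul_smul, mul_comm (b _)]
      rfl
    · have hkk : k * k ≠ 0 := mul_ne_zero hk0 hk0
      have e2 : (LinearMap.mulLeft F (k * k)) ∘ (![x ^ (Fintype.card F - 1) * m, s, y] : Fin 3 → L) =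
          ![m, k * k * s, k * k * y] := by
        funext i
        fin_cases i
        · simp only [Function.comp_apply, LinearMap.mulLeft_apply, Fin.zero_eta, Matrix.cons_val_zero, hxk,
            mul_inv_cancel_left₀ hkk]
        · rfl
        · rfl
      have h1 := Basis.det_comp e (LinearMap.mulLeft F (k * k)) ![x ^ (Fintype.card F - 1) * m, s, y]
      rw [e2, ← hb', show LinearMap.det (LinearMap.mulLeft F (k * k)) = Algebra.norm F (k * k) by
        rw [Algebra.norm_apply]; rfl, hN, one_mul] at h1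
      rw [← h1, LinearMap.comp_apply, LinearMap.comp_apply, LinearMap.mulLeft_apply, LinearMap.mulLeft_apply]
      congr 1
      ring
  intro c d
  obtain ⟨m, hm⟩ := exists_form S (skew_wedge S c d) e
  obtain ⟨b', hb', hbm⟩ := (hA m).1 (mem_of_powers h3 A h0 hadd hneg ((hA m₀).2 ⟨b, ⟨z, hz, hrep⟩, hm₀⟩) hm₀0
    hmul m)
  have e3 : wedge τ c d = b' := LinearMap.ext fun x => S.ext_tau fun y => by rw [hm, hbm]
  exact eich_mem_of_realised S H.uu (e3 ▸ hb')

end CfsgLib.ExtFieldThree
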