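import Cfsg.Agent.Lib.ExtFieldThree.Roots
import Cfsg.Agent.Lib.ExtFieldThree.RootsCubic

/-!
A non-trivial map fixing the orthogonal space of an isotropic line generates everything with the linear group.
-/

set_option autoImplicit false
set_option linter.unusedSectionVars false

namespace CfsgLib.ExtFieldThree

open Matrix QuadraticMap Module CfsgLib.Orth CfsgLib.ExtFieldOrth

variable {F : Type*} [Field F] [Fintype F] {ι : Type} [Fintype ι] [DecidableEq ι]
  {L : Type*} [Field L] [Fintype L] [Algebra F L] [Module L (ι → F)] [IsScalarTower F L (ι → F)]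
  {q : QuadraticForm F (ι → F)} {τ : L →ₗ[F] F} {u n w : ι → F} {M : Subgroup (O q)}

variable (S : Setup q τ) (hs : finrank L (ι → F) = 3) (H : Frame q τ u n w)
include S hs H

/-- All root groups inside some line give the commutator subgroup. -/
theorem commutator_le_of_lineRoots (hM : HasLin L M) (hr : 3 ≤ finrank F L) {y : ι → F} (hy0 : y ≠ 0)
    (hy : kb q τ y y = 0) (h : LineRoots L M y) : commutator (O q) ≤ M := by
  have h1 := S.full_of_lineRoots hM hr hy0 hy h (H.u_ne S) H.uu H.ww H.uw (one_ne_zero (α := L))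
  have h2 := S.full_of_lineRoots hM hr hy0 hy h (H.w_ne S) H.ww H.uu (H.wu S) (one_ne_zero (α := L))
  rw [one_smul] at h1 h2
  exact GeomClasses.OrthEich.commutator_le_of_pair S.nondeg (by have := S.nine; omega) h1 h2 (by
    rw [S.polar_eq, H.wu S, S.one]; exact one_ne_zero)

/-- With the linear group, a map fixing `ℓ⊥` pointwise gives the commutator subgroup. -/
theorem commutator_le_of_central (hM : HasLin L M) (hr3 : 3 ≤ finrank F L) {z : O q} (hz : z ∈ M) (hz1 : z ≠ 1)
    (hfix : ∀ x, kb q τ u x = 0 → app z x = x) : commutator (O q) ≤ M := by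
  have := S.finite
  rcases Nat.lt_or_ge (finrank F L) 5 with h5 | hr
  · have h3 : finrank F L = 3 := by
      rcases (show finrank F L = 3 ∨ finrank F L = 4 by omega) with h | h
      · exact h
      · exact absurd (h ▸ S.prime) (by norm_num)
    exact commutator_le_of_lineRoots S hs H hM hr3 (H.u_ne S) H.uu (lineRoots_cubic S H hM h3 hz hz1 hfix)
  obtain ⟨b, hrep, hskew⟩ := exists_rep S H hfix
  have hb0 : b ≠ 0 := fun h => hz1 (hrep.ext (h ▸ rep_one S))
  obtain ⟨a, ha⟩ : ∃ a, a = kN S H.nn := ⟨_, rfl⟩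
  have hainv : a⁻¹ = a := ha ▸ kN_inv S H.nn
  have hau : app a u = (-1 : L) • u := by rw [ha, kN_neg S H.nn (H.un), neg_smul, one_smul]
  have hal : IsKLin L a := ha ▸ kN_lin S H.nn
  have haz : a * z * a⁻¹ = z := by
    refine Rep.ext (fun x => ?_) hrep
    have e1 : kb q τ (app a⁻¹ x) u = -kb q τ x u := by
      rw [← kb_app S hal, app_app_inv, hau, S.kb_smul_right, neg_one_mul]
    rw [app_mul, app_mul, hrep, map_add, app_app_inv, hal, hau, e1, map_neg, smul_smul, neg_mul_neg, mul_one]
  let D : Subgroup (O q) := M ⊓ M.comap (MulAut.conj a).toMonoidHom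
  have hmem : ∀ g, g ∈ D ↔ g ∈ M ∧ a * g * a⁻¹ ∈ M := fun g => Iff.rfl
  have hDM : D ≤ M := inf_le_left
  have hD : HasLin L D := fun g hg hgl => (hmem g).2 ⟨hM g hg hgl, hM _
    ((inferInstance : (commutator (O q)).Normal).conj_mem g hg a) ((hal.mul hgl).mul hal.inv)⟩
  have hDn : ∀ g ∈ D, kN S H.nn * g * (kN S H.nn)⁻¹ ∈ D := fun g hg => by
    rw [← ha, hmem]
    refine ⟨((hmem g).1 hg).2, ?_⟩
    have e : a * (a * g * a⁻¹) * a⁻¹ = a * a * g * (a * a)⁻¹ := by group
    have e2 : a * a = 1 := by conv_lhs => arg 1; rw [← hainv]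
                              exact inv_mul_cancel a
    rw [e, e2, one_mul, inv_one, mul_one]
    exact hDM hg
  have hw0 := H.w_ne S
  have hzw : ∀ d : L, app z (d • w) = d • w + b d • u := fun d => by
    rw [hrep, S.kb_smul_left, H.wu S, mul_one]
  have P : IsPair q τ D w z := by
    refine ⟨hw0, H.ww, (hmem z).2 ⟨hz, by rw [haz]; exact hz⟩, fun e => hb0 (LinearMap.ext fun d => ?_)⟩
    have h1 : app z (d • w) ∈ line L w := e ▸ app_mem_img (smul_mem_line d w)
    obtain ⟨k, hk⟩ := mem_line.1 h1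
    have h2 := congrArg (fun x => kb q τ x w) (hk.trans (hzw d))
    simp only [S.kb_add_left, S.kb_smul_left, H.ww, H.uw, mul_zero, mul_one, zero_add] at h2
    exact h2.symm
  obtain ⟨d, hd0, hbd⟩ := Skew.exists_ker S H hskew (S.prime.odd_of_ne_two (by omega))
  have hd : 1 ≤ dimE L w z := by
    have hne : d • w ≠ 0 := smul_ne_zero hd0 hw0
    rw [← finrank_span_singleton (K := F) hne]
    refine Submodule.finrank_mono ((Submodule.span_singleton_le_iff_mem _ _).2
      (Submodule.mem_inf.2 ⟨smul_mem_line d w, ?_⟩))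
    have h1 := app_mem_img (g := z) (smul_mem_line d w)
    rwa [hzw, hbd, zero_smul, add_zero] at h1
  have H' := H.swap S
  obtain ⟨c', P', hd', hA'⟩ := climb S hs H' hD hDn hr P hd
  obtain ⟨p, hp, hT⟩ := trans_of_hyperplane S hs H' hD P' hd' hA'
  obtain ⟨h, hh, hhl, c, hc, hhu⟩ := S.exists_move hM (H.u_ne S) H.uu hw0 H.ww
  refine commutator_le_of_lineRoots S hs H hM (by omega) hw0 H.ww
    (lineRoots_of_trans S H' hM hr (z := h * z * h⁻¹) (M.mul_mem (M.mul_mem hh hz) (M.inv_mem hh))
      (fun e => hz1 (conj_eq_one_iff.1 e)) (fun x hx => ?_) hp (hT.mono hDM))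
  rw [app_mul, app_mul, hfix, app_app_inv]
  rw [← kb_app S hhl, app_app_inv, hhu, S.kb_smul_left, hx, mul_zero]

end CfsgLib.ExtFieldThree
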