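import Cfsg.Agent.Lib.ExtFieldOrth.Main

/-!
Coordinates in a three-dimensional orthogonal space over an extension field, seen over the ground field.
-/

set_option autoImplicit false
set_option linter.unusedSectionVars false

namespace CfsgLib.ExtFieldThree

open Matrix QuadraticMap Module CfsgLib.Orth CfsgLib.ExtFieldOrth

variable {F : Type*} [Field F] [Fintype F] {ι : Type} [Fintype ι] [DecidableEq ι]
  {L : Type*} [Field L] [Fintype L] [Algebra F L] [Module L (ι → F)] [IsScalarTower F L (ι → F)]
  {q : QuadraticForm F (ι → F)} {τ : L →ₗ[F] F}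

variable (q τ) in
/-- A hyperbolic pair with a vector orthogonal to both. -/
structure Frame (u n w : ι → F) : Prop where
  uu : kb q τ u u = 0
  ww : kb q τ w w = 0
  uw : kb q τ u w = 1
  un : kb q τ u n = 0
  wn : kb q τ w n = 0
  nn : kb q τ n n ≠ 0

variable (S : Setup q τ)
include S

theorem kb_app {g : O q} (hg : IsKLin L g) (x y : ι → F) : kb q τ (app g x) (app g y) = kb q τ x y :=
  S.kb_unique fun d => by rw [← hg, polar_app, S.tau_kb]

variable {u n w : ι → F} (H : Frame q τ u n w)
include H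

theorem Frame.wu : kb q τ w u = 1 := by rw [S.kb_comm, H.uw]

theorem Frame.nu : kb q τ n u = 0 := by rw [S.kb_comm, H.un]

theorem Frame.nw : kb q τ n w = 0 := by rw [S.kb_comm, H.wn]

theorem Frame.u_ne : u ≠ 0 := fun h => by
  have := H.uw
  rw [h, S.kb_zero_left] at this
  exact zero_ne_one this

theorem Frame.w_ne : w ≠ 0 := fun h => by
  have := H.uw
  rw [h, S.kb_zero_right] at this
  exact zero_ne_one this

theorem Frame.swap : Frame q τ w n u :=
  ⟨H.ww, H.uu, H.wu S, H.wn, H.un, H.nn⟩

omit H in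
theorem exists_frame {u : ι → F} (hu0 : u ≠ 0) (hu : kb q τ u u = 0) :
    ∃ n w, Frame q τ u n w := by
  obtain ⟨z, hz⟩ := S.exists_pairing hu0
  obtain ⟨a, b, hw, huw⟩ := S.exists_partner hu hz
  obtain ⟨n, hn, hnn⟩ := S.exists_anisotropic_perp hu hw huw
  exact ⟨n, _, hu, hw, huw, S.mem_kperp.1 hn 0, S.mem_kperp.1 hn 1, hnn⟩

variable (hs : finrank L (ι → F) = 3)
include hs

/-- The coordinates. -/
theorem Frame.expand (x : ι → F) :
    x = kb q τ x w • u + (kb q τ x n / kb q τ n n) • n + kb q τ x u • w := by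
  have := S.finiteL
  have hli : LinearIndependent L ![u, n, w] := by
    rw [Fintype.linearIndependent_iff]
    intro g hg
    rw [Fin.sum_univ_three] at hg
    simp only [Matrix.cons_val_zero, Matrix.cons_val_one, Matrix.cons_val] at hg
    have e : ∀ a, g 0 * kb q τ u a + g 1 * kb q τ n a + g 2 * kb q τ w a = 0 := fun a => by
      have := congrArg (fun z => kb q τ z a) hg
      simpa only [S.kb_add_left, S.kb_smul_left, S.kb_zero_left] using this
    have e0 := e w
    have e1 := e n
    have e2 := e u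
    rw [H.uw, H.nw S, H.ww, mul_zero, mul_zero, add_zero, add_zero, mul_one] at e0
    rw [H.un, H.wn, mul_zero, mul_zero, add_zero, zero_add, mul_eq_zero] at e1
    rw [H.uu, H.nu S, H.wu S, mul_zero, mul_zero, zero_add, zero_add, mul_one] at e2
    intro i
    fin_cases i
    · exact e0
    · exact e1.resolve_right H.nn
    · exact e2
  have hspan := hli.span_eq_top_of_card_eq_finrank (by rw [hs, Fintype.card_fin])
  have hx : x ∈ Submodule.span L (Set.range ![u, n, w]) := hspan ▸ Submodule.mem_top
  obtain ⟨c, rfl⟩ := (Submodule.mem_span_range_iff_exists_fun L).1 hx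
  rw [Fin.sum_univ_three]
  simp only [Matrix.cons_val_zero, Matrix.cons_val_one, Matrix.cons_val, S.kb_add_left, S.kb_smul_left,
    H.uu, H.ww, H.uw, H.un, H.wn, H.nu S, H.nw S, H.wu S, mul_zero, mul_one, add_zero, zero_add,
    mul_div_assoc, div_self H.nn]

theorem Frame.eq_zero {x : ι → F} (h1 : kb q τ x w = 0) (h2 : kb q τ x n = 0) (h3 : kb q τ x u = 0) :
    x = 0 := by
  rw [H.expand S hs x, h1, h2, h3, zero_div, zero_smul, zero_smul, zero_smul, add_zero, add_zero]

theorem Frame.mem_line_iff {x : ι → F} : x ∈ line L u ↔ kb q τ x u = 0 ∧ kb q τ x n = 0 := by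
  refine ⟨fun h => ?_, fun ⟨h1, h2⟩ => ?_⟩
  · obtain ⟨k, rfl⟩ := mem_line.1 h
    rw [S.kb_smul_left, S.kb_smul_left, H.uu, H.un, mul_zero]
    exact ⟨rfl, rfl⟩
  · rw [H.expand S hs x, h1, h2, zero_div, zero_smul, zero_smul, add_zero, add_zero]
    exact smul_mem_line _ u

/-- Extensionality for linear maps in the coordinates. -/
theorem Frame.ext_lin {f g : O q} (hf : IsKLin L f) (hg : IsKLin L g) (h1 : app f u = app g u)
    (h2 : app f n = app g n) (h3 : app f w = app g w) : f = g :=
  ext_app fun x => by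
    rw [H.expand S hs x, map_add, map_add, map_add, map_add, hf, hf, hf, hg, hg, hg, h1, h2, h3]

omit hs

/-! ### The unipotent radical -/

/-- The unipotent element with parameter `t`. -/
noncomputable def Frame.ut (t : L) : O q :=
  S.kT H.uu (show kb q τ u (t • n) = 0 by rw [S.kb_smul_right, H.un, mul_zero])

theorem Frame.app_ut (t : L) (x : ι → F) : app (H.ut S t) x =
    x + (t * kb q τ x u) • n - (t * kb q τ x n + t * t * kb q τ n n / 2 * kb q τ x u) • u := by
  rw [Frame.ut, S.app_kT, S.kb_smul_right, S.kb_smul_left, S.kb_smul_right]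
  match_scalars <;> ring

theorem Frame.ut_lin (t : L) : IsKLin L (H.ut S t) := by
  unfold Frame.ut Setup.kT
  exact S.kIso_lin

theorem Frame.ut_mem {M : Subgroup (O q)} (hM : HasLin L M) (t : L) : H.ut S t ∈ M := S.kT_mem hM _ _

theorem Frame.ut_u (t : L) (k : L) : app (H.ut S t) (k • u) = k • u := by
  rw [H.app_ut S, S.kb_smul_left, S.kb_smul_left, H.uu, H.un]
  simp

theorem Frame.ut_line (t : L) {x : ι → F} (hx : x ∈ line L u) : app (H.ut S t) x = x := by
  obtain ⟨k, rfl⟩ := mem_line.1 hx
  exact H.ut_u S t k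

theorem Frame.ut_zero : H.ut S 0 = 1 :=
  ext_app fun x => by rw [H.app_ut S, app_one]; simp

theorem Frame.ut_add (s t : L) : H.ut S (s + t) = H.ut S s * H.ut S t :=
  ext_app fun x => by
    simp only [app_mul, H.app_ut S, S.kb_add_left, S.kb_sub_left, S.kb_smul_left, H.uu, H.un, H.nu S]
    have := S.two'
    match_scalars <;> field_simp <;> ring

theorem Frame.ut_inv (t : L) : (H.ut S t)⁻¹ = H.ut S (-t) :=
  inv_eq_of_mul_eq_one_right (by rw [← H.ut_add S, add_neg_cancel, H.ut_zero S])

theorem Frame.ut_img_line (t : L) : img (H.ut S t) (line L u) = line L u :=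
  Submodule.eq_of_le_of_finrank_eq
    (fun x hx => by obtain ⟨y, hy, rfl⟩ := hx; rw [H.ut_line S t hy]; exact hy) (finrank_img _ _)

include hs in
theorem Frame.fix_ut_mem {t : L} (ht : t ≠ 0) {x : ι → F} (hx : app (H.ut S t) x = x) : x ∈ line L u := by
  have h1 := congrArg (fun z => kb q τ z n) hx
  have h2 := congrArg (fun z => kb q τ z w) hx
  simp only [H.app_ut S, S.kb_sub_left, S.kb_add_left, S.kb_smul_left, H.un, H.uw, H.nw S] at h1 h2
  have h3 : kb q τ x u = 0 := by
    have : t * kb q τ x u * kb q τ n n = 0 := by linear_combination h1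
    exact (mul_eq_zero.1 ((mul_eq_zero.1 this).resolve_right H.nn)).resolve_left ht
  have h4 : kb q τ x n = 0 := by
    rw [h3] at h2
    have : t * kb q τ x n = 0 := by linear_combination -h2
    exact (mul_eq_zero.1 this).resolve_left ht
  exact (H.mem_line_iff S hs).2 ⟨h3, h4⟩

omit H

/-! ### Negations -/

/-- Fix an anisotropic vector and negate its orthogonal space. -/
noncomputable def kN {a : ι → F} (ha : kb q τ a a ≠ 0) : O q :=
  S.kIso (-S.kRL a) (-S.kRL a)
    (fun x => by rw [LinearMap.neg_apply, LinearMap.neg_apply, map_neg, neg_neg, S.kRL_kRL ha])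
    (fun x => by rw [LinearMap.neg_apply, LinearMap.neg_apply, map_neg, neg_neg, S.kRL_kRL ha])
    (fun x => by rw [LinearMap.neg_apply, S.kb_neg_left, S.kb_neg_right, neg_neg, S.kb_kRL ha])

theorem app_kN {a : ι → F} (ha : kb q τ a a ≠ 0) (x : ι → F) :
    app (kN S ha) x = (2 / kb q τ a a * kb q τ x a) • a - x := by
  rw [kN, S.app_kIso, LinearMap.neg_apply, S.kRL_apply]
  abel

theorem kN_lin {a : ι → F} (ha : kb q τ a a ≠ 0) : IsKLin L (kN S ha) := S.kIso_lin

theorem kN_neg {a x : ι → F} (ha : kb q τ a a ≠ 0) (h : kb q τ x a = 0) : app (kN S ha) x = -x := by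
  rw [app_kN, h, mul_zero, zero_smul, zero_sub]

theorem kN_fix {a : ι → F} (ha : kb q τ a a ≠ 0) (k : L) : app (kN S ha) (k • a) = k • a := by
  rw [app_kN, S.kb_smul_left]
  match_scalars
  field_simp
  ring

theorem kN_inv {a : ι → F} (ha : kb q τ a a ≠ 0) : (kN S ha)⁻¹ = kN S ha :=
  inv_eq_of_mul_eq_one_right (ext_app fun x => by
    rw [app_mul, app_one, kN, S.app_kIso, S.app_kIso, LinearMap.neg_apply, LinearMap.neg_apply, map_neg,
      neg_neg, S.kRL_kRL ha])

theorem kN_conj {a : ι → F} (ha : kb q τ a a ≠ 0) {h : O q} (hh : IsKLin L h)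
    (ha' : kb q τ (app h a) (app h a) ≠ 0) : h * kN S ha * h⁻¹ = kN S ha' :=
  ext_app fun x => by
    rw [app_mul, app_mul, app_kN, app_kN, map_sub, hh, app_app_inv, kb_app S hh]
    congr 3
    conv_rhs => rw [← app_app_inv h x, kb_app S hh]

/-- If two of three orthogonal vectors have values in the same square class, the negation of their span
is a square. -/
theorem kN_mem {M : Subgroup (O q)} (hM : HasLin L M) (hs : finrank L (ι → F) = 3) {a b c : ι → F}
    (ha : kb q τ a a ≠ 0) (hb : kb q τ b b ≠ 0) (hc : kb q τ c c ≠ 0) (hab : kb q τ a b = 0)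
    (hac : kb q τ a c = 0) (hbc : kb q τ b c = 0) {m : L} (hm : kb q τ a a * kb q τ b b = m * m) :
    kN S hc ∈ M := by
  have := S.finiteL
  obtain ⟨b', hb'⟩ : ∃ b', b' = (m / kb q τ b b) • b := ⟨_, rfl⟩
  have hm0 : m ≠ 0 := fun h => mul_ne_zero ha hb (by rw [hm, h, mul_zero])
  have hbb : kb q τ b' b' = kb q τ a a := by
    rw [hb', S.kb_smul_left, S.kb_smul_right]
    field_simp
    linear_combination -hm
  have hab' : kb q τ a b' = 0 := by rw [hb', S.kb_smul_right, hab, mul_zero]
  have hb'c : kb q τ b' c = 0 := by rw [hb', S.kb_smul_left, hbc, mul_zero]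
  have hd : kb q τ (a - b') (a - b') ≠ 0 := by
    rw [S.kb_sub_left, S.kb_sub_right, S.kb_sub_right, hbb, hab', S.kb_comm b' a, hab']
    simp only [sub_zero, zero_sub, sub_neg_eq_add]
    rw [← two_mul]
    exact mul_ne_zero S.two' ha
  have hb'0 : kb q τ b' b' ≠ 0 := hbb ▸ ha
  obtain ⟨ρ, hρ⟩ : ∃ ρ, ρ = S.kR hb'0 * S.kR hd := ⟨_, rfl⟩
  have hρl : IsKLin L ρ := by rw [hρ]; exact S.kIso_lin.mul S.kIso_lin
  have key : ρ * ρ = kN S hc := by
    have h2 := S.two'
    have ea : app ρ a = -b' := by
      rw [hρ, app_mul, S.app_kR, S.app_kR]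
      simp only [S.kb_sub_left, S.kb_sub_right, S.kb_smul_left, S.kb_comm b' a, hab', hbb,
        sub_zero, zero_sub, sub_neg_eq_add, ← two_mul]
      match_scalars <;> field_simp <;> ring
    have eb : app ρ b' = a := by
      rw [hρ, app_mul, S.app_kR, S.app_kR]
      simp only [S.kb_sub_left, S.kb_sub_right, S.kb_smul_left, S.kb_comm b' a, hab', hbb,
        sub_zero, zero_sub, sub_neg_eq_add, ← two_mul]
      match_scalars <;> field_simp <;> ring
    have ec : app ρ c = c := by
      rw [hρ, app_mul, S.kR_fix hd, S.kR_fix hb'0]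
      · rw [S.kb_comm, hb'c]
      · rw [S.kb_sub_right, S.kb_comm c a, hac, S.kb_comm c b', hb'c, sub_zero]
    have hli : LinearIndependent L ![a, b', c] := by
      rw [Fintype.linearIndependent_iff]
      intro g hg
      rw [Fin.sum_univ_three] at hg
      simp only [Matrix.cons_val_zero, Matrix.cons_val_one, Matrix.cons_val] at hg
      have e : ∀ z, g 0 * kb q τ a z + g 1 * kb q τ b' z + g 2 * kb q τ c z = 0 := fun z => by
        have := congrArg (fun v => kb q τ v z) hg
        simpa only [S.kb_add_left, S.kb_smul_left, S.kb_zero_left] using this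
      have e0 := e a
      have e1 := e b'
      have e2 := e c
      rw [S.kb_comm b' a, hab', S.kb_comm c a, hac, mul_zero, mul_zero, add_zero, add_zero, mul_eq_zero] at e0
      rw [hab', S.kb_comm c b', hb'c, mul_zero, mul_zero, add_zero, zero_add, mul_eq_zero] at e1
      rw [hac, hb'c, mul_zero, mul_zero, zero_add, zero_add, mul_eq_zero] at e2
      intro i
      fin_cases i
      · exact e0.resolve_right ha
      · exact e1.resolve_right hb'0
      · exact e2.resolve_right hc
    have hspan := hli.span_eq_top_of_card_eq_finrank (by rw [hs, Fintype.card_fin])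
    refine ext_app fun x => ?_
    have hx : x ∈ Submodule.span L (Set.range ![a, b', c]) := hspan ▸ Submodule.mem_top
    obtain ⟨g, rfl⟩ := (Submodule.mem_span_range_iff_exists_fun L).1 hx
    have e1 : ∀ z, app ρ (-z) = -app ρ z := fun z => map_neg _ z
    rw [Fin.sum_univ_three]
    simp only [Matrix.cons_val_zero, Matrix.cons_val_one, Matrix.cons_val, app_mul, map_add, hρl _ _, ea, eb, ec, e1,
      kN_lin S hc _ _]
    rw [kN_neg S hc hac, kN_neg S hc hb'c, show app (kN S hc) c = c by simpa using kN_fix S hc 1]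
  rw [← key]
  exact S.sq_mem_of_hasLin hM hρl

end CfsgLib.ExtFieldThree
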