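import Cfsg.Agent.Lib.ExtFieldThree.Transfer

/-!
Maximality of the normaliser of a field of self-adjoint matrices of degree a third of the dimension.
-/

set_option autoImplicit false
set_option linter.unusedSectionVars false

namespace CfsgLib.ExtFieldThree

open Matrix QuadraticMap Module CfsgLib.Orth CfsgLib.ExtFieldOrth

variable {F : Type*} [Field F] [Fintype F] {ι : Type} [Fintype ι] [DecidableEq ι]

/-- The normaliser of a self-adjoint field of prime degree `r ≥ 3` in dimension `3 r` is maximal. -/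
theorem maximal_field_three {Q : (ι → F) → F} {r : ℕ} (hn : 3 * r = Fintype.card ι) (hr : r.Prime) (hr3 : 3 ≤ r)
    (hQ : Cfsg.Geo.IsNondegenerateQuadraticForm Q) (hodd : Odd (Fintype.card F))
    (K : Subalgebra F (Matrix ι ι F)) (hK : Cfsg.Geo.IsFieldSubalgebra r K)
    (hsa : Cfsg.Geo.IsSelfAdjointFor (QuadraticMap.polar Q) K) :
    Cfsg.Geo.IsMaximalIn (Cfsg.Geo.omegaGL Q) (Cfsg.Geo.subalgebraNormalizer K ⊓ Cfsg.Geo.omegaGL Q) := by
  refine maximal_field_aux (by omega) hQ hodd hr K hK (fun s h => ?_) hsa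
    fun L _ _ _ _ _ τ S hfin M hlin hMc g hg u hu0 hu hb => ?_
  · rw [← hn, mul_comm 3] at h
    exact le_of_eq (Nat.eq_of_mul_eq_mul_left hr.pos h).symm
  · have hs : finrank L (ι → F) = 3 := by
      have h1 := S.card_eq
      rw [hfin, ← hn, mul_comm 3] at h1
      exact Nat.eq_of_mul_eq_mul_left hr.pos h1
    by_contra hno
    have hr' : 3 ≤ finrank F L := hfin ▸ hr3
    obtain ⟨c, P, hd⟩ := first_pair S hs hlin hr' hno hg hu0 hu hb
    obtain ⟨c', P', hd'⟩ := second_pair S hs hlin hr' hno P hd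
    exact not_pair_two S hs hlin hMc hr' hno P' hd'

end CfsgLib.ExtFieldThree
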