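import Cfsg.Agent.Lib.ExtFieldThree.Parabolic

/-!
A moved line gives a moved line meeting it in dimension two.
-/

set_option autoImplicit false
set_option linter.unusedSectionVars false

namespace CfsgLib.ExtFieldThree

open Matrix QuadraticMap Module CfsgLib.Orth CfsgLib.ExtFieldOrth

variable {F : Type*} [Field F] [Fintype F] {ι : Type} [Fintype ι] [DecidableEq ι]
  {L : Type*} [Field L] [Fintype L] [Algebra F L] [Module L (ι → F)] [IsScalarTower F L (ι → F)]
  {q : QuadraticForm F (ι → F)} {τ : L →ₗ[F] F} {u n w : ι → F} {M : Subgroup (O q)} {c : O q}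

theorem exists_fourth_power_ne (h : 6 < Fintype.card L) (k : L) : ∃ s : L, s ≠ 0 ∧ s ^ 4 ≠ k := by
  by_contra hc
  push Not at hc
  have h1 : k = 1 := by rw [← hc 1 one_ne_zero, one_pow]
  have h2 : ∀ x : Lˣ, x ^ 4 = 1 := fun x => Units.ext (by
    rw [Units.val_pow_eq_pow_val, hc _ x.ne_zero, h1, Units.val_one])
  have h3 := Nat.le_of_dvd (by norm_num) ((FiniteField.forall_pow_eq_one_iff L 4).1 h2)
  omega

variable (S : Setup q τ) (hs : finrank L (ι → F) = 3) (hM : HasLin L M) (hr : 3 ≤ finrank F L)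
  (hno : ¬ commutator (O q) ≤ M)
include S hs hM hr hno

/-- An involution preserving a moved line is a scalar on it. -/
theorem uniform (P : IsPair q τ M u c) {z : O q} (hz : z ∈ M) (hz2 : z * z = 1)
    (hzY : img z (img c (line L u)) = img c (line L u)) :
    (∀ x ∈ img c (line L u), app z x = x) ∨ ∀ x ∈ img c (line L u), app z x = -x := by
  obtain ⟨n, w, H⟩ := exists_frame S P.ne P.sing
  obtain ⟨x, hx⟩ : ∃ x, x = c⁻¹ * z * c := ⟨_, rfl⟩
  have hxM : x ∈ M := hx ▸ M.mul_mem (M.mul_mem (M.inv_mem P.mem) hz) P.mem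
  have hxl : img x (line L u) = line L u := by
    rw [hx, img_mul, img_mul, hzY, ← img_mul, inv_mul_cancel, img_one]
  obtain ⟨σ, A, -, -, hσ1, hσm, hxu, -, -, -⟩ := line_semilinear S hs H hM hr hno hxM hxl
  have hx2 : ∀ d : L, app x (app x (d • u)) = d • u := fun d => by
    rw [← app_mul, hx, show c⁻¹ * z * c * (c⁻¹ * z * c) = c⁻¹ * (z * z) * c by group, hz2, mul_one,
      inv_mul_cancel, app_one]
  have hA2 : ∀ d, A * σ A * σ (σ d) = d := fun d => by
    have h1 := hx2 d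
    rw [hxu, hxu, hσm, ← mul_assoc] at h1
    exact smul_left_injective L P.ne h1
  have hAA : A * σ A = 1 := by
    have := hA2 1
    rwa [hσ1, hσ1, mul_one] at this
  have hid := eq_id_of_involution S (by omega) σ hσ1 hσm fun d => by
    have := hA2 d
    rwa [hAA, one_mul] at this
  rw [hid] at hAA
  have hz' : ∀ y ∈ img c (line L u), ∃ d : L, app c (d • u) = y ∧ app z y = app c ((A * d) • u) := fun y hy => by
    obtain ⟨e, he, rfl⟩ := hy
    obtain ⟨d, rfl⟩ := mem_line.1 he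
    refine ⟨d, rfl, ?_⟩
    have h1 : app x (d • u) = (A * d) • u := by rw [hxu, hid]
    rw [← h1, hx, app_mul, app_mul, app_app_inv]
  rcases mul_self_eq_one_iff.1 hAA with rfl | rfl
  · refine Or.inl fun y hy => ?_
    obtain ⟨d, hd, hd'⟩ := hz' y hy
    rw [hd', one_mul, hd]
  · refine Or.inr fun y hy => ?_
    obtain ⟨d, hd, hd'⟩ := hz' y hy
    rw [hd', neg_one_mul, neg_smul, map_neg, hd]

/-- The step from an orthogonal pair of anisotropic vectors in a moved line. -/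
theorem pair_step (P : IsPair q τ M u c) {y y₂ : ι → F} (hy : y ∈ img c (line L u)) (hy₂ : y₂ ∈ img c (line L u))
    (h0 : kb q τ y y ≠ 0) (h2 : kb q τ y₂ y₂ ≠ 0) (horth : kb q τ y y₂ = 0) :
    (∃ c', IsPair q τ M u c' ∧ 2 ≤ dimE L u c') ∨
      ∃ v, kb q τ v v ≠ 0 ∧ kb q τ y v = 0 ∧ kb q τ y₂ v = 0 ∧ ∀ x ∈ img c (line L u), kb q τ x v = 0 := by
  have := S.finiteL
  obtain ⟨Φ, hΦ⟩ : ∃ Φ : (ι → F) →ₗ[L] L × L, ∀ x, Φ x = (kb q τ y x, kb q τ y₂ x) :=
    ⟨(S.kB y).prod (S.kB y₂), fun x => rfl⟩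
  have hrange : LinearMap.range Φ = ⊤ := by
    refine LinearMap.range_eq_top.2 fun a => ⟨(a.1 / kb q τ y y) • y + (a.2 / kb q τ y₂ y₂) • y₂, ?_⟩
    rw [hΦ, S.kb_add_right, S.kb_add_right, S.kb_smul_right, S.kb_smul_right, S.kb_smul_right, S.kb_smul_right,
      horth, S.kb_comm y₂ y, horth, mul_zero, mul_zero, add_zero, zero_add, div_mul_cancel₀ _ h0,
      div_mul_cancel₀ _ h2]
  have hker : finrank L (LinearMap.ker Φ) = 1 := by
    have h1 := LinearMap.finrank_range_add_finrank_ker Φ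
    rw [hrange, finrank_top, Module.finrank_prod, Module.finrank_self, hs] at h1
    omega
  obtain ⟨v, hv, hv0⟩ := Submodule.exists_mem_ne_zero_of_ne_bot (p := LinearMap.ker Φ) fun h => by
    rw [h, finrank_bot] at hker; omega
  have hv1 : kb q τ y v = 0 ∧ kb q τ y₂ v = 0 := by
    have := LinearMap.mem_ker.1 hv
    rwa [hΦ, Prod.mk_eq_zero] at this
  have hvv : kb q τ v v ≠ 0 := fun h => hv0 (S.kb_nondeg fun z => by
    obtain ⟨k, hk⟩ : ∃ k, k = z - (kb q τ y z / kb q τ y y) • y - (kb q τ y₂ z / kb q τ y₂ y₂) • y₂ := ⟨_, rfl⟩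
    have hk' : k ∈ LinearMap.ker Φ := by
      rw [LinearMap.mem_ker, hΦ, Prod.mk_eq_zero, hk]
      simp only [S.kb_sub_right, S.kb_smul_right, horth, S.kb_comm y₂ y, div_mul_cancel₀ _ h0, div_mul_cancel₀ _ h2]
      constructor <;> ring
    have hspan : Submodule.span L {v} = LinearMap.ker Φ :=
      Submodule.eq_of_le_of_finrank_eq ((Submodule.span_singleton_le_iff_mem _ _).2 hv)
        (by rw [finrank_span_singleton hv0, hker])
    rw [← hspan] at hk'
    obtain ⟨a, ha⟩ := Submodule.mem_span_singleton.1 hk'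
    rw [show z = k + (kb q τ y z / kb q τ y y) • y + (kb q τ y₂ z / kb q τ y₂ y₂) • y₂ by rw [hk]; abel, ← ha]
    simp only [S.kb_add_right, S.kb_smul_right, h, S.kb_comm v y, S.kb_comm v y₂, hv1.1, hv1.2]
    ring)
  obtain ⟨z, hz⟩ : ∃ a, ∃ ha : kb q τ a a ≠ 0, kN S ha ∈ M ∧
      ((kb q τ y a = 0 ∧ kb q τ y₂ a = 0 ∧ a = v) ∨ (a = y ∧ kb q τ y₂ a = 0) ∨ (a = y₂ ∧ kb q τ y a = 0)) := by
    rcases exists_square_pair h0 h2 hvv with ⟨m, hm⟩ | ⟨m, hm⟩ | ⟨m, hm⟩
    · exact ⟨v, hvv, kN_mem S hM hs h0 h2 hvv horth hv1.1 hv1.2 hm, Or.inl ⟨hv1.1, hv1.2, rfl⟩⟩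
    · exact ⟨y₂, h2, kN_mem S hM hs h0 hvv h2 hv1.1 horth (by rw [S.kb_comm, hv1.2]) hm,
        Or.inr (Or.inr ⟨rfl, horth⟩)⟩
    · exact ⟨y, h0, kN_mem S hM hs h2 hvv h0 hv1.2 (by rw [S.kb_comm, horth]) (by rw [S.kb_comm, hv1.1]) hm,
        Or.inr (Or.inl ⟨rfl, by rw [S.kb_comm, horth]⟩)⟩
  obtain ⟨ha, hzM, hcase⟩ := hz
  have hsign : ∀ x, x = y ∨ x = y₂ → app (kN S ha) x = x ∨ app (kN S ha) x = -x := by
    have hfix : app (kN S ha) z = z := by simpa using kN_fix S ha 1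
    rintro x (rfl | rfl) <;> rcases hcase with ⟨e1, e2, -⟩ | ⟨rfl, e⟩ | ⟨rfl, e⟩
    · exact Or.inr (kN_neg S ha e1)
    · exact Or.inl hfix
    · exact Or.inr (kN_neg S ha e)
    · exact Or.inr (kN_neg S ha e2)
    · exact Or.inr (kN_neg S ha e)
    · exact Or.inl hfix
  by_cases hzY : img (kN S ha) (img c (line L u)) = img c (line L u)
  · right
    have hz2 : kN S ha * kN S ha = 1 := by
      conv_lhs => arg 1; rw [← kN_inv S ha]
      exact inv_mul_cancel _
    have hne : ∀ x, kb q τ x x ≠ 0 → -x ≠ x := fun x hx h => hx (by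
      have h1 := congrArg (fun z => kb q τ z x) h
      simp only [S.kb_neg_left] at h1
      refine (mul_eq_zero.1 (?_ : 2 * kb q τ x x = 0)).resolve_left S.two'
      linear_combination -h1)
    have hfixa : app (kN S ha) z = z := by simpa using kN_fix S ha 1
    refine ⟨v, hvv, hv1.1, hv1.2, fun x hx => ?_⟩
    rcases uniform S hs hM hr hno P hzM hz2 hzY with hu' | hu'
    · exfalso
      rcases hcase with ⟨e1, -, -⟩ | ⟨rfl, e⟩ | ⟨rfl, e⟩
      · exact hne y h0 ((kN_neg S ha e1).symm.trans (hu' y hy))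
      · exact hne y₂ h2 ((kN_neg S ha e).symm.trans (hu' y₂ hy₂))
      · exact hne y h0 ((kN_neg S ha e).symm.trans (hu' y hy))
    · rcases hcase with ⟨-, -, rfl⟩ | ⟨rfl, -⟩ | ⟨rfl, -⟩
      · have h1 := hu' x hx
        rw [app_kN, sub_eq_neg_self, smul_eq_zero] at h1
        have h3 := h1.resolve_right hv0
        exact (mul_eq_zero.1 h3).resolve_left (div_ne_zero S.two' ha)
      · exact absurd ((hu' _ hy).symm.trans hfixa) (hne _ h0)
      · exact absurd ((hu' _ hy₂).symm.trans hfixa) (hne _ h2)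
  · left
    have hyy : y₂ ∉ Submodule.span F {y} := fun h => by
      obtain ⟨t, rfl⟩ := Submodule.mem_span_singleton.1 h
      rw [← algebraMap_smul L t y, S.kb_smul_right, mul_eq_zero] at horth
      rw [← algebraMap_smul L t y, horth.resolve_right h0, zero_smul, S.kb_zero_left] at h2
      exact h2 rfl
    have hsp : ∀ x, x = y ∨ x = y₂ → app (kN S ha) x ∈ img c (line L u) := fun x hx => by
      have hxY : x ∈ img c (line L u) := by rcases hx with rfl | rfl <;> assumption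
      rcases hsign x hx with e | e <;> rw [e]
      · exact hxY
      · exact Submodule.neg_mem _ hxY
    obtain ⟨hP, hd⟩ := pair_of_move S P hzM hzY (X := Submodule.span F {y} ⊔ Submodule.span F {y₂})
      (sup_le ((Submodule.span_singleton_le_iff_mem _ _).2 hy) ((Submodule.span_singleton_le_iff_mem _ _).2 hy₂))
      fun x hx => by
        obtain ⟨a, ha', b, hb, rfl⟩ := Submodule.mem_sup.1 hx
        obtain ⟨s, rfl⟩ := Submodule.mem_span_singleton.1 ha'
        obtain ⟨t, rfl⟩ := Submodule.mem_span_singleton.1 hb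
        rw [map_add, map_smul, map_smul]
        exact Submodule.add_mem _ (Submodule.smul_mem _ _ (hsp y (Or.inl rfl)))
          (Submodule.smul_mem _ _ (hsp y₂ (Or.inr rfl)))
    refine ⟨_, hP, ?_⟩
    rwa [finrank_sup_one hyy, finrank_span_singleton fun h : y = 0 => h0 (by rw [h, S.kb_zero_left])] at hd

omit hs hM hr hno in
/-- A vector orthogonal over `L` to a given one inside the image of an isotropic line. -/
theorem exists_kernel (hu0 : u ≠ 0) (hu : kb q τ u u = 0) (g : O q) {y : ι → F} (hy : y ∈ img g (line L u)) :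
    ∃ y₂ ∈ img g (line L u), y₂ ≠ 0 ∧ kb q τ y y₂ = 0 := by
  have := S.finite
  obtain ⟨φ, hφ⟩ : ∃ φ : img g (line L u) →ₗ[F] L, ∀ x : img g (line L u), φ x = kb q τ y (x : ι → F) :=
    ⟨((S.kB y).restrictScalars F).comp (img g (line L u)).subtype, fun x => rfl⟩
  have h1 : LinearMap.range φ ≤ LinearMap.ker τ := by
    rintro _ ⟨x, rfl⟩
    rw [LinearMap.mem_ker, hφ, ← S.polar_eq]
    exact S.polar_img_line hu g hy x.2
  have h2 := LinearMap.finrank_range_add_finrank_ker φ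
  rw [finrank_img, finrank_line hu0] at h2
  have h3 := Submodule.finrank_mono h1
  have h4 : finrank F (LinearMap.ker τ) < finrank F L := Submodule.finrank_lt fun h => by
    have : (1 : L) ∈ LinearMap.ker τ := h ▸ Submodule.mem_top
    rw [LinearMap.mem_ker, S.one] at this
    exact one_ne_zero this
  obtain ⟨x, hx, hx0⟩ := Submodule.exists_mem_ne_zero_of_ne_bot (p := LinearMap.ker φ) fun h => by
    rw [h, finrank_bot] at h2; omega
  exact ⟨x, x.2, fun h => hx0 (Subtype.ext h), by rw [← hφ]; exact LinearMap.mem_ker.1 hx⟩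

omit hs hr hno in
/-- Moving a singular vector of the image to the line. -/
theorem rebase (hc : c ∈ M) (hu0 : u ≠ 0) (hu : kb q τ u u = 0) {y₀ : ι → F}
    (hy₀ : y₀ ∈ img c (line L u)) (hy₀0 : y₀ ≠ 0) (hs₀ : kb q τ y₀ y₀ = 0) (hne : img c (line L u) ≠ line L y₀) :
    ∃ c', IsPair q τ M u c' ∧ 1 ≤ dimE L u c' ∧
      ∀ y ∈ img c (line L u), kb q τ y y ≠ 0 → kb q τ y y₀ = 0 → CaseA q τ (L := L) u c' := by
  obtain ⟨h, hh, hhl, k, hk, hhu⟩ := S.exists_move hM hu0 hu hy₀0 hs₀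
  have hhimg : img h (line L u) = line L y₀ := by
    refine Submodule.eq_of_le_of_finrank_eq ?_ (by rw [finrank_img, finrank_line hu0, finrank_line hy₀0])
    rintro _ ⟨e, he, rfl⟩
    obtain ⟨d, rfl⟩ := mem_line.1 he
    rw [hhl, hhu, smul_smul]
    exact smul_mem_line _ _
  refine ⟨h⁻¹ * c, ⟨hu0, hu, M.mul_mem (M.inv_mem hh) hc, fun e => hne ?_⟩, ?_, fun y hy hyy hyo => ?_⟩
  · have h1 := congrArg (img h) e
    rwa [← img_mul, mul_inv_cancel_left, hhimg] at h1
  · have e1 : app h⁻¹ y₀ = k⁻¹ • u := app_injective h (by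
      rw [app_app_inv, hhl, hhu, smul_smul, inv_mul_cancel₀ hk, one_smul])
    have hne0 : app h⁻¹ y₀ ≠ 0 := by rw [e1]; exact smul_ne_zero (inv_ne_zero hk) hu0
    rw [← finrank_span_singleton (K := F) hne0]
    refine Submodule.finrank_mono ((Submodule.span_singleton_le_iff_mem _ _).2 (Submodule.mem_inf.2 ⟨?_, ?_⟩))
    · rw [e1]; exact smul_mem_line _ _
    · rw [img_mul]; exact app_mem_img hy₀
  · refine ⟨app h⁻¹ y, by rw [img_mul]; exact app_mem_img hy, fun hl => hyy ?_, ?_⟩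
    · rw [← app_app_inv h y, kb_app S hhl]
      obtain ⟨d, hd⟩ := mem_line.1 hl
      rw [← hd, S.kb_smul_left, S.kb_smul_right, hu, mul_zero, mul_zero]
    · rw [← kb_app S hhl, app_app_inv, hhu, S.kb_smul_right, hyo, mul_zero]

/-- A first pair meeting the line. -/
theorem first_pair {g : O q} (hg : g ∈ M) (hu0 : u ≠ 0) (hu : kb q τ u u = 0)
    (hbreak : ∀ a : ι → F, img g (line L u) ≠ line L a) : ∃ c', IsPair q τ M u c' ∧ 1 ≤ dimE L u c' := by
  have := S.finite
  by_cases hsing : ∃ y ∈ img g (line L u), y ≠ 0 ∧ kb q τ y y = 0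
  · obtain ⟨y, hy, hy0, hys⟩ := hsing
    obtain ⟨c', P', hd, -⟩ := rebase S hM hg hu0 hu hy hy0 hys (hbreak y)
    exact ⟨c', P', hd⟩
  push Not at hsing
  obtain ⟨y, hy, hy0⟩ := Submodule.exists_mem_ne_zero_of_ne_bot (p := img g (line L u)) fun h => by
    have h1 := finrank_img g (line L u)
    rw [h, finrank_bot, finrank_line hu0] at h1
    have := S.prime.pos
    omega
  obtain ⟨y₂, hy₂, hy₂0, horth⟩ := exists_kernel S hu0 hu g hy
  have hA := hsing y₂ hy₂ hy₂0
  have P : IsPair q τ M u g := ⟨hu0, hu, hg, hbreak u⟩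
  rcases pair_step S hs hM hr hno P hy hy₂ (hsing y hy hy0) hA horth with
    ⟨c', P', hd⟩ | ⟨v, hvv, hyv, hy₂v, hall⟩
  · exact ⟨c', P', by omega⟩
  have hcard : 6 < Fintype.card L := by
    rw [Module.card_eq_pow_finrank (K := F)]
    calc 6 < 2 ^ 3 := by norm_num
      _ ≤ 2 ^ finrank F L := Nat.pow_le_pow_right (by norm_num) hr
      _ ≤ _ := Nat.pow_le_pow_left Fintype.one_lt_card _
  obtain ⟨s, hs0, hs4⟩ := exists_fourth_power_ne hcard ((kb q τ y₂ y₂ / kb q τ v v) ^ 2)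
  have hp : kb q τ y₂ y₂ + s * s * kb q τ v v ≠ 0 := fun h => hs4 (by
    rw [eq_neg_of_add_eq_zero_left h, neg_div, mul_div_cancel_right₀ _ hvv]; ring)
  have hm : kb q τ y₂ y₂ - s * s * kb q τ v v ≠ 0 := fun h => hs4 (by
    rw [sub_eq_zero.1 h, mul_div_cancel_right₀ _ hvv]; ring)
  have hb : kb q τ (y₂ + s • v) (y₂ + s • v) ≠ 0 := by
    simp only [S.kb_add_left, S.kb_add_right, S.kb_smul_left, S.kb_smul_right, hy₂v, S.kb_comm v y₂, mul_zero,
      zero_add, add_zero]
    rwa [← mul_assoc]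
  obtain ⟨h, hhdef⟩ : ∃ h, h = S.kR hb * S.kR hA * (S.kR hb * S.kR hA) := ⟨_, rfl⟩
  have hh : h ∈ M := hhdef ▸ S.sq_mem_of_hasLin hM (S.kIso_lin.mul S.kIso_lin)
  have hne : img h (img g (line L u)) ≠ img g (line L u) := fun e => by
    have h1 := hall _ (e ▸ app_mem_img (g := h) hy₂)
    rw [hhdef] at h1
    simp only [app_mul, S.app_kR, S.kb_sub_left, S.kb_smul_left, S.kb_add_left, S.kb_add_right, S.kb_smul_right,
      hy₂v, S.kb_comm v y₂, mul_zero, zero_add, add_zero] at h1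
    rw [← mul_assoc] at h1
    have h2 : 4 * kb q τ y₂ y₂ * s * (kb q τ y₂ y₂ - s * s * kb q τ v v) * kb q τ v v *
        ((kb q τ y₂ y₂ + s * s * kb q τ v v)⁻¹ * (kb q τ y₂ y₂ + s * s * kb q τ v v)⁻¹) = 0 := by
      field_simp at h1
      ring_nf at h1 ⊢
      linear_combination h1
    have h4 : (4 : L) ≠ 0 := by
      rw [show (4 : L) = 2 * 2 by norm_num]
      exact mul_ne_zero S.two' S.two'
    exact mul_ne_zero (mul_ne_zero (mul_ne_zero (mul_ne_zero (mul_ne_zero h4 hA) hs0) hm) hvv)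
      (mul_ne_zero (inv_ne_zero hp) (inv_ne_zero hp)) h2
  obtain ⟨hP, hd⟩ := pair_of_move S P hh hne (X := Submodule.span F {y})
    ((Submodule.span_singleton_le_iff_mem _ _).2 hy) fun x hx => by
      obtain ⟨t, rfl⟩ := Submodule.mem_span_singleton.1 hx
      have e1 : kb q τ y (y₂ + s • v) = 0 := by rw [S.kb_add_right, S.kb_smul_right, horth, hyv, mul_zero, add_zero]
      have e : app h y = y := by
        rw [hhdef, app_mul, app_mul, app_mul, S.kR_fix hA horth, S.kR_fix hb e1, S.kR_fix hA horth,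
          S.kR_fix hb e1]
      rw [map_smul, e]
      exact Submodule.smul_mem _ _ hy
  refine ⟨_, hP, ?_⟩
  rwa [finrank_span_singleton hy0] at hd

/-- A pair meeting in dimension two. -/
theorem second_pair (P : IsPair q τ M u c) (hd : 1 ≤ dimE L u c) :
    ∃ c', IsPair q τ M u c' ∧ 2 ≤ dimE L u c' := by
  have := S.finite
  obtain ⟨n, w, H⟩ := exists_frame S P.ne P.sing
  have stepA : ∀ c, IsPair q τ M u c → 1 ≤ dimE L u c → CaseA q τ (L := L) u c →
      ∃ c', IsPair q τ M u c' ∧ 2 ≤ dimE L u c' := fun c P hd hA => by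
    by_cases h2 : 2 ≤ dimE L u c
    · exact ⟨c, P, h2⟩
    obtain ⟨y₁, hy₁, hy₁l, hy₁u⟩ := hA
    rcases orth_step S hs H hM P hd (by omega) hy₁ hy₁l hy₁u with ⟨c', P', hd'⟩ | ⟨-, y, hy, -, h1y, hyy⟩
    · exact ⟨c', P', by omega⟩
    have h11 : kb q τ y₁ y₁ ≠ 0 := fun h => by
      rw [H.expand S hs y₁, hy₁u, zero_smul, add_zero] at h
      simp only [S.kb_add_left, S.kb_add_right, S.kb_smul_left, S.kb_smul_right, H.uu, H.un, H.nu S, mul_zero,
        zero_add, add_zero] at h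
      refine H.kb_n_ne S hs hy₁l hy₁u ?_
      have hη := H.nn
      rcases mul_eq_zero.1 h with h' | h'
      · exact (div_eq_zero_iff.1 h').resolve_right hη
      · rcases mul_eq_zero.1 h' with h'' | h''
        · exact (div_eq_zero_iff.1 h'').resolve_right hη
        · exact absurd h'' hη
    rcases pair_step S hs hM hr hno P hy₁ hy h11 hyy h1y with hdone | ⟨v, hvv, hy₁v, -, hall⟩
    · exact hdone
    exfalso
    obtain ⟨e, he, he0⟩ := Submodule.exists_mem_ne_zero_of_ne_bot (p := line L u ⊓ img c (line L u)) fun h => by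
      rw [dimE, h, finrank_bot] at hd; omega
    obtain ⟨k, hk⟩ := mem_line.1 he.1
    have hk0 : k ≠ 0 := fun h => he0 (by rw [← hk, h, zero_smul])
    have huv : kb q τ u v = 0 := by
      have := hall e he.2
      rw [← hk, S.kb_smul_left, mul_eq_zero] at this
      exact this.resolve_left hk0
    have hvn : kb q τ v n = 0 := by
      rw [H.expand S hs y₁, hy₁u, zero_smul, add_zero, S.kb_add_left, S.kb_smul_left, S.kb_smul_left, huv,
        mul_zero, zero_add, S.kb_comm n v] at hy₁v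
      exact (mul_eq_zero.1 hy₁v).resolve_left (div_ne_zero (H.kb_n_ne S hs hy₁l hy₁u) H.nn)
    obtain ⟨d, rfl⟩ := mem_line.1 ((H.mem_line_iff S hs).2 ⟨by rw [S.kb_comm, huv], hvn⟩)
    exact hvv (by rw [S.kb_smul_left, S.kb_smul_right, H.uu, mul_zero, mul_zero])
  by_cases hA : CaseA q τ (L := L) u c
  · exact stepA c P hd hA
  obtain ⟨e, he, he0⟩ := Submodule.exists_mem_ne_zero_of_ne_bot (p := line L u ⊓ img c (line L u)) fun h => by
    rw [dimE, h, finrank_bot] at hd; omega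
  obtain ⟨k, hk⟩ := mem_line.1 he.1
  have hk0 : k ≠ 0 := fun h => he0 (by rw [← hk, h, zero_smul])
  have hβ : ∀ y ∈ img c (line L u), y ∉ line L u → kb q τ y u ≠ 0 := fun y hy hyl h => hA ⟨y, hy, hyl, h⟩
  obtain ⟨y, hy, hyy⟩ : ∃ y ∈ img c (line L u), kb q τ y y ≠ 0 := by
    by_contra hc
    push Not at hc
    obtain ⟨y, hy, hyl⟩ : ∃ y ∈ img c (line L u), y ∉ line L u := by
      by_contra hc'
      push Not at hc'
      exact P.move (Submodule.eq_of_le_of_finrank_eq hc' (finrank_img _ _))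
    have h1 := hc _ (Submodule.add_mem _ he.2 hy)
    rw [← hk, S.kb_add_left, S.kb_add_right, S.kb_add_right, S.kb_smul_left, S.kb_smul_left, S.kb_smul_right,
      S.kb_smul_right, H.uu, hc y hy, S.kb_comm u y] at h1
    simp only [mul_zero, zero_add, add_zero, ← two_mul] at h1
    exact hβ y hy hyl ((mul_eq_zero.1 ((mul_eq_zero.1 h1).resolve_left S.two')).resolve_left hk0)
  have hyl : y ∉ line L u := fun h => hyy (by
    obtain ⟨d, rfl⟩ := mem_line.1 h
    rw [S.kb_smul_left, S.kb_smul_right, H.uu, mul_zero, mul_zero])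
  obtain ⟨y₂, hy₂, hy₂0, horth⟩ := exists_kernel S P.ne P.sing c hy
  by_cases h2 : kb q τ y₂ y₂ = 0
  · have hne : img c (line L u) ≠ line L y₂ := fun h => by
      have h1 : k • u ∈ line L y₂ := by rw [← h, hk]; exact he.2
      obtain ⟨l, hl⟩ := mem_line.1 h1
      have hl0 : l ≠ 0 := fun hh => he0 (by rw [← hk, ← hl, hh, zero_smul])
      have h3 : y₂ ∈ line L u :=
        mem_line.2 ⟨l⁻¹ * k, by rw [mul_smul, ← hl, inv_smul_smul₀ hl0]⟩
      obtain ⟨d, hd'⟩ := mem_line.1 h3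
      have hd0 : d ≠ 0 := fun hh => hy₂0 (by rw [← hd', hh, zero_smul])
      rw [← hd', S.kb_smul_right, mul_eq_zero] at horth
      exact hβ y hy hyl (horth.resolve_left hd0)
    obtain ⟨c', P', hd', hA'⟩ := rebase S hM P.mem P.ne P.sing hy₂ hy₂0 h2 hne
    exact stepA c' P' hd' (hA' y hy hyy horth)
  rcases pair_step S hs hM hr hno P hy hy₂ hyy h2 horth with hdone | ⟨v, hvv, -, -, hall⟩
  · exact hdone
  have huv : kb q τ u v = 0 := by
    have := hall e he.2
    rw [← hk, S.kb_smul_left, mul_eq_zero] at this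
    exact this.resolve_left hk0
  have hvn : kb q τ v n ≠ 0 := fun h => hvv (by
    obtain ⟨d, rfl⟩ := mem_line.1 ((H.mem_line_iff S hs).2 ⟨by rw [S.kb_comm, huv], h⟩)
    rw [S.kb_smul_left, S.kb_smul_right, H.uu, mul_zero, mul_zero])
  have hdeg : Degenerate q τ (L := L) u n c := by
    refine ⟨kb q τ v w * kb q τ n n / kb q τ v n, fun x hx => ?_⟩
    have h1 := hall x hx
    have h3 : kb q τ x v = kb q τ v w * kb q τ x u + kb q τ v n / kb q τ n n * kb q τ x n := by
      conv_lhs => rw [H.expand S hs v, S.kb_comm v u, huv, zero_smul, add_zero, S.kb_add_right, S.kb_smul_right,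
        S.kb_smul_right]
    rw [h3] at h1
    have hη := H.nn
    field_simp at h1 ⊢
    linear_combination h1
  obtain ⟨c', P', hd', hA'⟩ := twist_degenerate S hs H hM P hA hd (S.prime.odd_of_ne_two (by omega)) hdeg
  exact stepA c' P' (by omega) hA'

end CfsgLib.ExtFieldThree
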