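import Cfsg.Agent.Lib.ExtFieldThree.Central
import Mathlib.RingTheory.Norm.Transitivity

/-!
Elements of an overgroup stabilising an isotropic line.
-/

set_option autoImplicit false
set_option linter.unusedSectionVars false

namespace CfsgLib.ExtFieldThree

open Matrix QuadraticMap Module CfsgLib.Orth CfsgLib.ExtFieldOrth

variable {F : Type*} [Field F] [Fintype F] {ι : Type} [Fintype ι] [DecidableEq ι]
  {L : Type*} [Field L] [Fintype L] [Algebra F L] [Module L (ι → F)] [IsScalarTower F L (ι → F)]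
  {q : QuadraticForm F (ι → F)} {τ : L →ₗ[F] F} {u n w : ι → F} {M : Subgroup (O q)}

theorem img_inv_eq {g : O q} {X : Submodule F (ι → F)} (h : img g X = X) : img g⁻¹ X = X := by
  conv_lhs => rw [← h, ← img_mul, inv_mul_cancel, img_one]

theorem det_app_commutator {g : O q} (hg : g ∈ commutator (O q)) : LinearMap.det (app g) = 1 := by
  have h1 := Abelianization.commutator_subset_ker ((Matrix.GeneralLinearGroup.det).comp (O q).subtype) hg
  rw [MonoidHom.mem_ker, MonoidHom.comp_apply, Units.ext_iff, Matrix.GeneralLinearGroup.val_det_apply] at h1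
  have e : app g = Matrix.toLin' ((g : GL ι F) : Matrix ι ι F) := LinearMap.ext fun x => by
    rw [app_apply, Matrix.toLin'_apply]
  rw [e, LinearMap.det_toLin']
  exact h1

variable (S : Setup q τ)
include S

theorem kb_inv_of_fix {h : O q} {u : ι → F} (hfix : ∀ k : L, app h (k • u) = k • u) (x : ι → F) :
    kb q τ (app h x) u = kb q τ x u := by
  rw [S.kb_comm _ u, S.kb_comm x u]
  refine S.kb_unique fun d => ?_
  rw [← hfix d, polar_app, S.tau_kb]

theorem stab_perp {x : O q} {u : ι → F} (hx : img x (line L u) = line L u) {y : ι → F}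
    (hy : kb q τ y u = 0) : kb q τ (app x y) u = 0 := by
  rw [S.kb_comm]
  refine S.kb_eq_zero fun d => ?_
  have h1 : d • u ∈ img x (line L u) := hx.symm ▸ smul_mem_line d u
  obtain ⟨e, he, hde⟩ := h1
  obtain ⟨k, rfl⟩ := mem_line.1 he
  rw [← hde, polar_app, S.polar_eq, S.kb_smul_left, S.kb_comm u y, hy, mul_zero, map_zero]

/-- A multiplicative linear involution of a field of odd prime degree is trivial. -/
theorem eq_id_of_involution (hr : 3 ≤ finrank F L) (σ : L →ₗ[F] L) (h1 : σ 1 = 1)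
    (hm : ∀ c d, σ (c * d) = σ c * σ d) (hi : ∀ d, σ (σ d) = d) (c : L) : σ c = c := by
  have := S.finite
  obtain ⟨Z, hZ⟩ : ∃ Z, Z = LinearMap.ker (σ - LinearMap.id) := ⟨_, rfl⟩
  have hZm : ∀ d, d ∈ Z ↔ σ d = d := fun d => by
    rw [hZ, LinearMap.mem_ker, LinearMap.sub_apply, LinearMap.id_apply, sub_eq_zero]
  by_cases htop : Z = ⊤
  · exact (hZm c).1 (htop ▸ Submodule.mem_top)
  have hscal : ∀ d, σ d = d → ∃ t : F, algebraMap F L t = d := fun d hd =>
    scalar_of_mul_mem S.prime (fun h0 => one_ne_zero ((Submodule.eq_bot_iff _).1 h0 1 ((hZm 1).2 h1))) htop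
      fun z hz => (hZm _).2 (by rw [hm, hd, (hZm z).1 hz])
  obtain ⟨a, ha⟩ := hscal (c + σ c) (by rw [map_add, hi, add_comm])
  obtain ⟨b, hb⟩ := hscal (c * σ c) (by rw [hm, hi, mul_comm])
  obtain ⟨t, ht⟩ := scalar_of_sq S.prime hr (c := c) (a := -b) (b := a) (by rw [map_neg, hb, ha]; ring)
  rw [← ht, Algebra.algebraMap_eq_smul_one, map_smul, h1]

variable (hs : finrank L (ι → F) = 3) (H : Frame q τ u n w)
include hs H

theorem Frame.kb_w_ut (t : L) (x : ι → F) :
    kb q τ (app (H.ut S t) x) w = kb q τ x w - (t * kb q τ x n + t * t * kb q τ n n / 2 * kb q τ x u) := by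
  have h1 := H.kb_ut_sub_w S hs t x
  rw [S.kb_sub_left] at h1
  linear_combination h1

theorem Frame.app_ut_w (t d : L) :
    app (H.ut S t) (d • w) = d • w + (t * d) • n - (t * t * kb q τ n n / 2 * d) • u := by
  rw [H.app_ut S]
  simp only [S.kb_smul_left, H.wu S, H.wn, mul_one, mul_zero, zero_add]

theorem det_kR : LinearMap.det (app (S.kR H.nn)) = (-1 : F) ^ finrank F L := by
  have := S.finite
  have := S.finiteL
  have hli : LinearIndependent L ![u, n, w] := by
    rw [Fintype.linearIndependent_iff]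
    intro g hg
    rw [Fin.sum_univ_three] at hg
    simp only [Matrix.cons_val_zero, Matrix.cons_val_one, Matrix.cons_val] at hg
    have e : ∀ a, g 0 * kb q τ u a + g 1 * kb q τ n a + g 2 * kb q τ w a = 0 := fun a => by
      have := congrArg (fun z => kb q τ z a) hg
      simpa only [S.kb_add_left, S.kb_smul_left, S.kb_zero_left] using this
    have e0 := e w
    have e1 := e n
    have e2 := e u
    rw [H.uw, H.nw S, H.ww, mul_zero, mul_zero, add_zero, add_zero, mul_one] at e0
    rw [H.un, H.wn, mul_zero, mul_zero, add_zero, zero_add, mul_eq_zero] at e1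
    rw [H.uu, H.nu S, H.wu S, mul_zero, mul_zero, zero_add, zero_add, mul_one] at e2
    intro i
    fin_cases i
    · exact e0
    · exact e1.resolve_right H.nn
    · exact e2
  obtain ⟨b, hb⟩ : ∃ b : Basis (Fin 3) L (ι → F), ⇑b = ![u, n, w] :=
    ⟨basisOfLinearIndependentOfCardEqFinrank hli (by rw [Fintype.card_fin, hs]),
      coe_basisOfLinearIndependentOfCardEqFinrank _ _⟩
  have hrw : ∀ j, S.kRL n (b j) = (![1, -1, 1] : Fin 3 → L) j • b j := by
    intro j
    rw [hb, S.kRL_apply]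
    fin_cases j
    · simp [H.un]
    · simp only [Fin.mk_one, Matrix.cons_val_one, Matrix.cons_val_zero, neg_smul, one_smul,
        div_mul_cancel₀ _ H.nn, two_smul]
      abel
    · simp [H.wn]
  have hmat : LinearMap.toMatrix b b (S.kRL n) = Matrix.diagonal ![1, -1, 1] := by
    ext i j
    rw [LinearMap.toMatrix_apply, hrw, map_smul, b.repr_self, Finsupp.smul_apply, smul_eq_mul,
      Finsupp.single_apply, Matrix.diagonal_apply]
    by_cases hij : i = j
    · subst hij; simp
    · simp [hij, Ne.symm hij]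
  have e : app (S.kR H.nn) = (S.kRL n).restrictScalars F := LinearMap.ext fun x => by
    rw [Setup.kR, S.app_kIso, LinearMap.restrictScalars_apply]
  rw [e, LinearMap.det_restrictScalars, ← LinearMap.det_toMatrix b, hmat, Matrix.det_diagonal, Fin.prod_univ_three]
  simp only [Matrix.cons_val_zero, Matrix.cons_val_one, Matrix.cons_val, one_mul, mul_one]
  rw [show (-1 : L) = algebraMap F L (-1) by rw [map_neg, map_one], Algebra.norm_algebraMap]

variable (hM : HasLin L M) (hr : 3 ≤ finrank F L) (hno : ¬ commutator (O q) ≤ M)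
include hM hr hno

theorem eq_one_of_fix_perp {z : O q} (hz : z ∈ M) (hfix : ∀ x, kb q τ u x = 0 → app z x = x) : z = 1 := by
  by_contra h
  exact hno (commutator_le_of_central S hs H hM hr hz h hfix)

/-- Unipotents of the stabiliser of the flag. -/
theorem eq_ut {h : O q} (hh : h ∈ M) (hline : ∀ k : L, app h (k • u) = k • u)
    (hquot : ∀ y, kb q τ y u = 0 → app h y - y ∈ line L u) : ∃ t, h = H.ut S t := by
  have hcomm : ∀ c, h * H.ut S c = H.ut S c * h := fun c => by
    have h1 : (h * H.ut S c)⁻¹ * (H.ut S c * h) = 1 := by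
      refine eq_one_of_fix_perp S hs H hM hr hno
        (M.mul_mem (M.inv_mem (M.mul_mem hh (H.ut_mem S hM c))) (M.mul_mem (H.ut_mem S hM c) hh)) fun x hx => ?_
      rw [S.kb_comm] at hx
      have e : app (H.ut S c * h) x = app (h * H.ut S c) x := by
        obtain ⟨k, hk⟩ := mem_line.1 (hquot x hx)
        rw [app_mul, app_mul, H.ut_perp S hs c hx, map_sub, hline, ← sub_add_cancel (app h x) x, ← hk, map_add,
          H.ut_perp S hs c hx, H.ut_u S]
        abel
      rw [app_mul, e, app_inv_app]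
    exact inv_mul_eq_one.1 h1
  obtain ⟨g, hg⟩ : ∃ g, g = fun d : L => kb q τ (app h (d • w)) n := ⟨_, rfl⟩
  obtain ⟨Φ, hΦ⟩ : ∃ Φ, Φ = fun d : L => kb q τ (app h (d • n)) w := ⟨_, rfl⟩
  have key : ∀ c d : L, Φ (c * d) = -(c * g d) := fun c d => by
    have h1 := congrArg (fun f => kb q τ (app f (d • w)) w) (hcomm c)
    simp only [app_mul, H.app_ut_w S hs, map_sub, map_add, hline, H.kb_w_ut S hs, S.kb_sub_left, S.kb_add_left,
      S.kb_smul_left, kb_inv_of_fix S hline, H.wu S, H.uw, mul_one] at h1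
    rw [hΦ, hg]
    linear_combination h1
  obtain ⟨t, ht⟩ : ∃ t, t = g 1 / kb q τ n n := ⟨_, rfl⟩
  refine ⟨t, ?_⟩
  have h1 : (H.ut S t)⁻¹ * h = 1 := by
    refine eq_one_of_fix_perp S hs H hM hr hno (M.mul_mem (M.inv_mem (H.ut_mem S hM t)) hh) fun x hx => ?_
    rw [S.kb_comm] at hx
    apply app_injective (H.ut S t)
    rw [app_mul, app_app_inv]
    obtain ⟨a, ha⟩ : ∃ a, a = kb q τ x n / kb q τ n n := ⟨_, rfl⟩
    have hn : app h (a • n) = Φ a • u + a • n := by
      conv_lhs => rw [H.expand S hs (app h (a • n))]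
      have e1 : kb q τ (app h (a • n)) u = 0 := by
        rw [kb_inv_of_fix S hline, S.kb_smul_left, H.nu S, mul_zero]
      have e2 : kb q τ (app h (a • n)) n = a * kb q τ n n := by
        obtain ⟨k, hk⟩ := mem_line.1 (hquot (a • n) (by rw [S.kb_smul_left, H.nu S, mul_zero]))
        rw [← sub_add_cancel (app h (a • n)) (a • n), ← hk, S.kb_add_left, S.kb_smul_left, S.kb_smul_left, H.un,
          mul_zero, zero_add]
      rw [e1, e2, zero_smul, add_zero, mul_div_cancel_right₀ _ H.nn, hΦ]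
    have e0 : x = kb q τ x w • u + a • n := by
      conv_lhs => rw [H.expand S hs x, hx, zero_smul, add_zero, ← ha]
    rw [H.ut_perp S hs t hx]
    conv_lhs => rw [e0, map_add, hline, hn]
    have e3 : Φ a = -(t * kb q τ x n) := by
      have h4 := key a 1
      rw [mul_one] at h4
      rw [h4, ht, ha]
      ring
    rw [e3, neg_smul]
    conv_rhs => rw [e0]
    rw [show kb q τ (kb q τ x w • u + a • n) n = kb q τ x n by rw [← e0]]
    abel
  exact (inv_mul_eq_one.1 h1).symm

/-- The action of the stabiliser of a line, on the line and on the quotient. -/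
theorem line_semilinear {x : O q} (hx : x ∈ M) (hxl : img x (line L u) = line L u) :
    ∃ (σ : L →ₗ[F] L) (A B R : L), σ 1 = 1 ∧ (∀ c d, σ (c * d) = σ c * σ d) ∧
      (∀ d, app x (d • u) = (A * σ d) • u) ∧ (∀ d, kb q τ (app x (d • n)) n = kb q τ n n * (B * σ d)) ∧
      (∀ c, x * H.ut S c * x⁻¹ = H.ut S (R * σ c)) ∧ A * σ (kb q τ n n) = kb q τ n n * (R * B) := by
  have hη := H.nn
  have hconj : ∀ c, ∃ t, x * H.ut S c * x⁻¹ = H.ut S t := fun c => by
    refine eq_ut S hs H hM hr hno (M.mul_mem (M.mul_mem hx (H.ut_mem S hM c)) (M.inv_mem hx)) (fun k => ?_)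
      fun y hy => ?_
    · rw [app_mul, app_mul, H.ut_line S c ((img_inv_eq hxl) ▸ app_mem_img (smul_mem_line k u)), app_app_inv]
    · have hy' := stab_perp S (img_inv_eq hxl) hy
      rw [app_mul, app_mul, H.ut_perp S hs c hy', map_sub, app_app_inv, sub_sub_cancel_left]
      exact Submodule.neg_mem _ (hxl ▸ app_mem_img (smul_mem_line _ u))
  choose ρ hρ using hconj
  obtain ⟨A₀, hA₀⟩ : ∃ A₀ : L →ₗ[F] L, ∀ d, A₀ d = kb q τ w (app x (d • u)) :=
    ⟨((S.kB w).restrictScalars F).comp ((app x).comp ((LinearMap.toSpanSingleton L (ι → F) u).restrictScalars F)),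
      fun d => rfl⟩
  have hxu : ∀ d, app x (d • u) = A₀ d • u := fun d => by
    obtain ⟨k, hk⟩ := mem_line.1 (hxl ▸ app_mem_img (smul_mem_line d u) : app x (d • u) ∈ line L u)
    rw [hA₀, ← hk, S.kb_smul_right, H.wu S, mul_one]
  obtain ⟨B₀, hB₀⟩ : ∃ B₀ : L → L, ∀ d, B₀ d = kb q τ (app x (d • n)) n / kb q τ n n := ⟨_, fun _ => rfl⟩
  have hβ : ∀ d : L, kb q τ (d • n) u = 0 := fun d => by rw [S.kb_smul_left, H.nu S, mul_zero]
  have key : ∀ c d, A₀ (c * d * kb q τ n n) = ρ c * (kb q τ n n * B₀ d) := fun c d => by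
    have h0 : x * H.ut S c = H.ut S (ρ c) * x := by rw [← hρ, inv_mul_cancel_right]
    have h1 := congrArg (fun f => kb q τ (app f (d • n)) w) h0
    simp only [app_mul, H.ut_perp S hs c (hβ d), map_sub, hxu, H.kb_w_ut S hs, S.kb_sub_left,
      stab_perp S hxl (hβ d), S.kb_smul_left, H.uw, mul_one, mul_zero, add_zero] at h1
    rw [hB₀, mul_div_cancel₀ _ hη]
    rw [show c * d * kb q τ n n = c * (d * kb q τ n n) by ring]
    linear_combination -h1
  obtain ⟨A', hA'⟩ : ∃ A' : L →ₗ[F] L, ∀ d, A' d = A₀ (d * kb q τ n n) :=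
    ⟨A₀.comp (LinearMap.mulRight F (kb q τ n n)), fun d => rfl⟩
  have hkey : ∀ c d, A' (c * d) = ρ c * (kb q τ n n * B₀ d) := fun c d => by rw [hA', key]
  have hu0 := H.u_ne S
  have hA'1 : A' 1 ≠ 0 := fun h => by
    rw [hA', one_mul] at h
    have h1 := hxu (kb q τ n n)
    rw [h, zero_smul] at h1
    exact smul_ne_zero hη hu0 (app_injective x (h1.trans (map_zero _).symm))
  have hρ1 : ρ 1 ≠ 0 := fun h => hA'1 (by rw [← one_mul (1 : L), hkey, h, zero_mul])
  have hB1 : B₀ 1 ≠ 0 := fun h => hA'1 (by rw [← one_mul (1 : L), hkey, h, mul_zero, mul_zero])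
  obtain ⟨σ, hσ⟩ : ∃ σ : L →ₗ[F] L, ∀ d, σ d = (A' 1)⁻¹ * A' d :=
    ⟨(LinearMap.mulLeft F (A' 1)⁻¹).comp A', fun d => rfl⟩
  have e1 : ∀ c, A' c = ρ c * (kb q τ n n * B₀ 1) := fun c => by rw [← hkey, mul_one]
  have e2 : ∀ d, A' d = ρ 1 * (kb q τ n n * B₀ d) := fun d => by rw [← hkey, one_mul]
  have e3 : ∀ d, A₀ d = A' (d * (kb q τ n n)⁻¹) := fun d => by rw [hA', inv_mul_cancel_right₀ hη]
  have hm : ∀ c d, σ (c * d) = σ c * σ d := fun c d => by
    rw [hσ, hσ, hσ, hkey]
    rw [e1 1, e1 c, e2 d]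
    field_simp
  have hmi : σ (kb q τ n n)⁻¹ * σ (kb q τ n n) = 1 := by
    rw [← hm, inv_mul_cancel₀ hη, hσ, inv_mul_cancel₀ hA'1]
  refine ⟨σ, A' 1 * σ (kb q τ n n)⁻¹, B₀ 1, A' 1 / (kb q τ n n * B₀ 1), ?_, hm, fun d => ?_, fun d => ?_,
    fun c => ?_, ?_⟩
  · rw [hσ, inv_mul_cancel₀ hA'1]
  · rw [hxu, e3, mul_assoc, mul_comm (σ _) (σ d), ← hm, hσ, mul_inv_cancel_left₀ hA'1]
  · have h5 : B₀ d = B₀ 1 * σ d := by
      rw [hσ]
      have h6 := e2 d
      have h7 := e1 1
      field_simp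
      linear_combination (B₀ d) * h7 - (B₀ 1) * h6
    rw [← h5, hB₀, mul_div_cancel₀ _ hη]
  · have h5 : ρ c = A' 1 / (kb q τ n n * B₀ 1) * σ c := by
      rw [hσ, e1 c]
      field_simp
    rw [← h5, hρ]
  · rw [mul_assoc, hmi, mul_one]
    field_simp

/-- An element of `Ω` fixing two independent vectors of the line and stabilising it is unipotent. -/
theorem stab_fix {x : O q} (hx : x ∈ M) (hxc : x ∈ commutator (O q)) (hxl : img x (line L u) = line L u)
    {k₀ k₁ : L} (hk₀ : k₀ ≠ 0) (hk₁ : ∀ t : F, t • k₀ ≠ k₁) (h₀ : app x (k₀ • u) = k₀ • u)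
    (h₁ : app x (k₁ • u) = k₁ • u) : ∃ t, x = H.ut S t := by
  have := S.finite
  obtain ⟨σ, A, B, R, hσ1, hσm, hxu, hxn, hxc', hrel⟩ := line_semilinear S hs H hM hr hno hx hxl
  have hu0 := H.u_ne S
  have f₀ : A * σ k₀ = k₀ := smul_left_injective L hu0 ((hxu k₀).symm.trans h₀)
  have f₁ : A * σ k₁ = k₁ := smul_left_injective L hu0 ((hxu k₁).symm.trans h₁)
  obtain ⟨γ, hγ⟩ : ∃ γ, γ = k₁ / k₀ := ⟨_, rfl⟩
  have hk : γ * k₀ = k₁ := by rw [hγ, div_mul_cancel₀ _ hk₀]
  have hγfix : σ γ = γ := by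
    refine mul_right_cancel₀ hk₀ ?_
    rw [← hk, hσm] at f₁
    linear_combination f₁ - (σ γ) * f₀
  have hid : ∀ d, σ d = d := by
    obtain ⟨Z, hZ⟩ : ∃ Z, Z = LinearMap.ker (σ - LinearMap.id) := ⟨_, rfl⟩
    have hZm : ∀ d, d ∈ Z ↔ σ d = d := fun d => by
      rw [hZ, LinearMap.mem_ker, LinearMap.sub_apply, LinearMap.id_apply, sub_eq_zero]
    intro d
    by_contra hd
    obtain ⟨t, ht⟩ := scalar_of_mul_mem S.prime (Z := Z) (γ := γ)
      (fun h0 => one_ne_zero ((Submodule.eq_bot_iff _).1 h0 1 ((hZm 1).2 hσ1)))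
      (fun h1 => hd ((hZm d).1 (h1 ▸ Submodule.mem_top)))
      fun z hz => (hZm _).2 (by rw [hσm, hγfix, (hZm z).1 hz])
    exact hk₁ t (by rw [Algebra.smul_def, ht, hk])
  have hA : A = 1 := by
    rw [hid] at f₀
    exact mul_right_cancel₀ hk₀ (f₀.trans (one_mul k₀).symm)
  have hline : ∀ k : L, app x (k • u) = k • u := fun k => by rw [hxu, hid, hA, one_mul]
  rw [hid, hA, one_mul] at hrel
  have hη := H.nn
  have hn0 : ∀ d : L, kb q τ (d • n) u = 0 := fun d => by rw [S.kb_smul_left, H.nu S, mul_zero]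
  have hn : ∀ d : L, app x (d • n) = kb q τ (app x (d • n)) w • u + (B * d) • n := fun d => by
    conv_lhs => rw [H.expand S hs (app x (d • n))]
    rw [stab_perp S hxl (hn0 d), hxn, hid, zero_smul, add_zero, mul_div_cancel_left₀ _ hη]
  have hB : B = 1 ∨ B = -1 := by
    refine mul_self_eq_one_iff.1 (S.ext_tau fun d => ?_)
    have h1 := polar_app x ((d / kb q τ n n) • n) ((1 : L) • n)
    rw [hn (d / kb q τ n n), hn 1, S.polar_eq, S.polar_eq] at h1
    simp only [S.kb_add_left, S.kb_add_right, S.kb_smul_left, S.kb_smul_right, H.uu, H.un, H.nu S, mul_zero,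
      zero_add, add_zero, mul_one, one_mul] at h1
    rw [mul_one]
    convert h1 using 2 <;> field_simp
  rcases hB with rfl | rfl
  · refine eq_ut S hs H hM hr hno hx hline fun y hy => ?_
    rw [H.expand S hs y, hy, zero_smul, add_zero, map_add, hline, hn, one_mul]
    exact mem_line.2 ⟨kb q τ (app x ((kb q τ y n / kb q τ n n) • n)) w, by abel⟩
  exfalso
  have hR : R = -1 := by
    have h1 : kb q τ n n * (R + 1) = 0 := by linear_combination hrel
    exact eq_neg_of_add_eq_zero_left ((mul_eq_zero.1 h1).resolve_left hη)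
  -- normalise
  obtain ⟨s, hsdef⟩ : ∃ s, s = kb q τ (app x w) n / kb q τ n n := ⟨_, rfl⟩
  obtain ⟨h, hh⟩ : ∃ h, h = x * H.ut S s := ⟨_, rfl⟩
  have hhM : h ∈ M := hh ▸ M.mul_mem hx (H.ut_mem S hM s)
  have hhl : ∀ k : L, app h (k • u) = k • u := fun k => by rw [hh, app_mul, H.ut_u S, hline]
  have hhn : ∀ d : L, kb q τ (app h (d • n)) n = -(kb q τ n n * d) := fun d => by
    rw [hh, app_mul, H.ut_perp S hs s (hn0 d), map_sub, hline, S.kb_sub_left, hxn, hid,
      S.kb_smul_left (s * kb q τ (d • n) n) u n, H.un]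
    ring
  have hcomm : ∀ c, h * H.ut S c = H.ut S (-c) * h := fun c => by
    have h1 := hxc' c
    rw [hid, hR, neg_one_mul, mul_inv_eq_iff_eq_mul] at h1
    rw [hh, mul_assoc, ← H.ut_add S, add_comm, H.ut_add S, ← mul_assoc, h1, mul_assoc]
  obtain ⟨g, hg⟩ : ∃ g, g = fun d : L => kb q τ (app h (d • w)) n := ⟨_, rfl⟩
  have hg1 : g 1 = 0 := by
    rw [hg, hh]
    show kb q τ (app (x * H.ut S s) ((1 : L) • w)) n = 0
    rw [app_mul, H.app_ut_w S hs, map_sub, map_add, hline, S.kb_sub_left, S.kb_add_left, hxn, hid, one_smul,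
      S.kb_smul_left _ u n, H.un]
    rw [hsdef]
    field_simp
    ring
  have key : ∀ c d : L, kb q τ (app h ((c * d) • n)) w = c * g d := fun c d => by
    have h1 := congrArg (fun f => kb q τ (app f (d • w)) w) (hcomm c)
    simp only [app_mul, H.app_ut_w S hs, map_sub, map_add, hhl, H.kb_w_ut S hs, S.kb_sub_left, S.kb_add_left,
      S.kb_smul_left, kb_inv_of_fix S hhl, H.wu S, H.uw, mul_one] at h1
    rw [hg]
    linear_combination h1
  have hg0 : ∀ d, g d = 0 := fun d => by
    have h1 := key 1 d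
    have h2 := key d 1
    rw [one_mul, one_mul] at h1
    rw [mul_one, hg1, mul_zero] at h2
    rw [← h1, h2]
  have hhn' : ∀ d : L, app h (d • n) = -(d • n) := fun d => by
    conv_lhs => rw [H.expand S hs (app h (d • n))]
    have h1 := key 1 d
    rw [one_mul, hg0, mul_zero] at h1
    rw [h1, hhn, kb_inv_of_fix S hhl, hn0, zero_smul, zero_smul, add_zero, zero_add]
    rw [← mul_neg, mul_div_cancel_left₀ _ hη, neg_smul]
  have hhw : ∀ d : L, app h (d • w) = kb q τ (app h (d • w)) w • u + d • w := fun d => by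
    conv_lhs => rw [H.expand S hs (app h (d • w))]
    have h2 := hg0 d
    simp only [hg] at h2
    rw [h2, kb_inv_of_fix S hhl, S.kb_smul_left, H.wu S, mul_one, zero_div, zero_smul, add_zero]
  have hsq : h * h = 1 := eq_one_of_fix_perp S hs H hM hr hno (M.mul_mem hhM hhM) fun y hy => by
    rw [S.kb_comm] at hy
    rw [H.expand S hs y, hy, zero_smul, add_zero, map_add, app_mul, app_mul, hhl, hhl, hhn', map_neg, hhn', neg_neg]
  have hhw' : ∀ d : L, app h (d • w) = d • w := fun d => by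
    have h1 := congrArg (fun f => app f (d • w)) hsq
    simp only [app_mul, app_one] at h1
    rw [hhw d, map_add, hhl, hhw d] at h1
    rw [hhw d]
    have h2 := congrArg (fun z => kb q τ z w) h1
    simp only [S.kb_add_left, S.kb_smul_left, H.uw, H.ww, mul_one, mul_zero, add_zero, ← two_mul] at h2
    rw [(mul_eq_zero.1 h2).resolve_left S.two', zero_smul, zero_add]
  have heq : h = S.kR H.nn := ext_app fun y => by
    rw [H.expand S hs y]
    simp only [map_add, hhl, hhn', hhw', S.app_kR, S.kb_add_left, S.kb_smul_left, H.un, H.wn, mul_zero, zero_smul, sub_zero]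
    match_scalars <;> field_simp <;> ring
  have hdet := det_app_commutator (g := h) (hh ▸ (commutator (O q)).mul_mem hxc
    (H.ut_mem S (M := commutator (O q)) (fun _ h _ => h) s))
  rw [heq, det_kR S hs H, (S.prime.odd_of_ne_two (by omega)).neg_one_pow] at hdet
  exact S.two (by linear_combination -hdet)

end CfsgLib.ExtFieldThree
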