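import Cfsg.Agent.Lib.ExtFieldThree.Frame

/-!
Quadrics in a field extension of odd prime degree.
-/

set_option autoImplicit false
set_option linter.unusedSectionVars false

namespace CfsgLib.ExtFieldThree

open Module MvPolynomial

variable {F : Type*} [Field F] [Fintype F] {L : Type*} [Field L] [Fintype L] [Algebra F L]

/-- A subspace of dimension more than half meets every translate of the set of squares. -/
theorem exists_sq_mem (Q : Submodule F L) (hQ : finrank F L < 2 * finrank F Q) {a : L} (ha : a ≠ 0) :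
    ∃ t : L, t ≠ 0 ∧ t * t * a ∈ Q := by
  classical
  have hfd : Module.Finite F L := Module.Finite.of_finite
  obtain ⟨b, hb⟩ : ∃ b, b = Module.finBasis F L := ⟨_, rfl⟩
  obtain ⟨c, hc⟩ : ∃ c, c = Module.finBasis F (L ⧸ Q) := ⟨_, rfl⟩
  obtain ⟨φ, hφ⟩ : ∃ φ : Fin (finrank F (L ⧸ Q)) → L →ₗ[F] F, ∀ j x, φ j x = c.repr (Q.mkQ x) j :=
    ⟨fun j => (c.coord j).comp Q.mkQ, fun j x => rfl⟩
  let f : Fin (finrank F (L ⧸ Q)) → MvPolynomial (Fin (finrank F L)) F := fun j =>
    ∑ i, ∑ k, C (φ j (b i * b k * a)) * X i * X k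
  have heval : ∀ j (x : Fin (finrank F L) → F),
      eval x (f j) = φ j ((∑ i, x i • b i) * (∑ i, x i • b i) * a) := by
    intro j x
    simp only [f, map_sum, map_mul, eval_C, eval_X]
    simp only [Finset.sum_mul, Finset.mul_sum, map_sum, smul_mul_assoc, mul_smul_comm, map_smul, smul_eq_mul]
    rw [Finset.sum_comm]
    exact Finset.sum_congr rfl fun i _ => Finset.sum_congr rfl fun k _ => by
      rw [mul_comm (b k) (b i)]
      ring
  have hdeg : (∑ j, (f j).totalDegree) < Fintype.card (Fin (finrank F L)) := by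
    rw [Fintype.card_fin]
    have h1 : ∀ j, (f j).totalDegree ≤ 2 := fun j => by
      refine totalDegree_finsetSum_le fun i _ => totalDegree_finsetSum_le fun k _ => ?_
      refine (totalDegree_mul _ _).trans ?_
      have h2 := totalDegree_mul (C (φ j (b i * b k * a))) (X i : MvPolynomial (Fin (finrank F L)) F)
      rw [totalDegree_C, totalDegree_X] at h2
      rw [totalDegree_X]
      omega
    have h3 := Finset.sum_le_sum (s := Finset.univ) fun j (_ : j ∈ Finset.univ) => h1 j
    rw [Finset.sum_const, Finset.card_univ, Fintype.card_fin, smul_eq_mul] at h3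
    have h4 := Q.finrank_quotient_add_finrank
    omega
  obtain ⟨p, hp⟩ := CharP.exists F
  have hp' : Fact p.Prime := ⟨CharP.char_is_prime F p⟩
  have hdvd := char_dvd_card_solutions_of_fintype_sum_lt p (f := f) hdeg
  have h0 : ∀ j, eval (0 : Fin (finrank F L) → F) (f j) = 0 := fun j => by rw [heval]; simp
  by_contra hcon
  push Not at hcon
  have hone : Fintype.card {x : Fin (finrank F L) → F // ∀ j, eval x (f j) = 0} = 1 := by
    refine Fintype.card_eq_one_iff.2 ⟨⟨0, h0⟩, fun x => Subtype.ext ?_⟩
    by_contra hx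
    obtain ⟨t, ht⟩ : ∃ t, t = ∑ i, x.1 i • b i := ⟨_, rfl⟩
    have ht0 : t ≠ 0 := fun h => hx (funext fun i => by
      have := Fintype.linearIndependent_iff.1 b.linearIndependent x.1 (ht ▸ h) i
      simpa using this)
    refine hcon t ht0 ((Submodule.Quotient.mk_eq_zero Q).1 (c.repr.injective ?_))
    ext j
    rw [map_zero, Finsupp.zero_apply]
    have := x.2 j
    rw [heval, ← ht, hφ] at this
    exact this
  have h5 : p ∣ 1 := by convert hdvd using 1; convert hone.symm
  exact hp'.out.one_lt.ne' (Nat.dvd_one.1 h5)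

variable (hp : (finrank F L).Prime)
include hp

/-- An element stabilising a proper non-zero subspace is a scalar. -/
theorem scalar_of_mul_mem {Z : Submodule F L} (h0 : Z ≠ ⊥) (h1 : Z ≠ ⊤) {γ : L}
    (hγ : ∀ z ∈ Z, γ * z ∈ Z) : ∃ t : F, algebraMap F L t = γ := by
  have : Module.Finite F L := Module.Finite.of_finite
  haveI := Subalgebra.isSimpleOrder_of_finrank_prime F L hp
  let A : Subalgebra F L :=
    { carrier := {a | ∀ z ∈ Z, a * z ∈ Z}
      mul_mem' := fun {a b} ha hb z hz => by rw [mul_assoc]; exact ha _ (hb z hz)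
      one_mem' := fun z hz => by rwa [one_mul]
      add_mem' := fun {a b} ha hb z hz => by rw [add_mul]; exact Z.add_mem (ha z hz) (hb z hz)
      zero_mem' := fun z hz => by rw [zero_mul]; exact Z.zero_mem
      algebraMap_mem' := fun t z hz => by rw [← Algebra.smul_def]; exact Z.smul_mem t hz }
  have hA : γ ∈ A := hγ
  rcases eq_bot_or_eq_top A with h | h
  · rw [h] at hA
    exact Algebra.mem_bot.1 hA
  · exfalso
    obtain ⟨z, hz, hz0⟩ := Submodule.exists_mem_ne_zero_of_ne_bot h0
    refine h1 (eq_top_iff.2 fun x _ => ?_)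
    have hx : x / z ∈ A := h ▸ Algebra.mem_top
    have := hx z hz
    rwa [div_mul_cancel₀ _ hz0] at this

variable (hr : 3 ≤ finrank F L)
include hr

/-- An element of degree at most two is a scalar. -/
theorem scalar_of_sq {c : L} {a b : F} (h : c * c = algebraMap F L a + algebraMap F L b * c) :
    ∃ t : F, algebraMap F L t = c := by
  have : Module.Finite F L := Module.Finite.of_finite
  refine scalar_of_mul_mem hp (Z := Submodule.span F ({1, c} : Set L)) (fun hb => ?_) (fun ht => ?_)
    fun z hz => ?_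
  · exact one_ne_zero ((Submodule.eq_bot_iff _).1 hb 1 (Submodule.subset_span (by simp)))
  · classical
    have h1 := finrank_span_finset_le_card (R := F) ({1, c} : Finset L)
    rw [Finset.coe_pair, Set.finrank, ht, finrank_top] at h1
    have h2 : ({1, c} : Finset L).card ≤ 2 := Finset.card_le_two
    omega
  · obtain ⟨x, y, rfl⟩ := Submodule.mem_span_pair.1 hz
    refine Submodule.mem_span_pair.2 ⟨y * a, x + y * b, ?_⟩
    simp only [Algebra.smul_def, map_add, map_mul]
    linear_combination -(algebraMap F L y) * h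

omit hr hp in
/-- Of three non-zero elements two have square product. -/
theorem exists_square_pair {A B C : L} (hA : A ≠ 0) (hB : B ≠ 0) (hC : C ≠ 0) :
    (∃ m, A * B = m * m) ∨ (∃ m, A * C = m * m) ∨ ∃ m, B * C = m * m := by
  classical
  have key : ∀ x y : L, x ≠ 0 → y ≠ 0 → quadraticChar L x = quadraticChar L y → ∃ m, x * y = m * m := by
    intro x y hx hy h
    have h1 : quadraticChar L (x * y) = 1 := by
      rw [map_mul, h]
      rcases quadraticChar_dichotomy hy with e | e <;> rw [e] <;> norm_num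
    exact (quadraticChar_one_iff_isSquare (mul_ne_zero hx hy)).1 h1
  rcases quadraticChar_dichotomy hA with a | a <;> rcases quadraticChar_dichotomy hB with b | b <;>
    rcases quadraticChar_dichotomy hC with c | c
  all_goals first
    | exact Or.inl (key A B hA hB (a.trans b.symm))
    | exact Or.inr (Or.inl (key A C hA hC (a.trans c.symm)))
    | exact Or.inr (Or.inr (key B C hB hC (b.trans c.symm)))

omit hr hp in
/-- An additive map vanishing on squares vanishes. -/
theorem eq_zero_of_squares {G : Type*} [AddCommGroup G] (h2 : (2 : L) ≠ 0) (f : L →+ G)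
    (hf : ∀ s : L, f (s * s) = 0) (c : L) : f c = 0 := by
  have e : c = (c / 4 + 1) * (c / 4 + 1) - (c / 4 - 1) * (c / 4 - 1) := by
    have : (4 : L) ≠ 0 := by
      rw [show (4 : L) = 2 * 2 by norm_num]
      exact mul_ne_zero h2 h2
    field_simp
    ring
  rw [e, map_sub, hf, hf, sub_zero]

/-- There are non-scalar solutions of a quadratic equation with a scalar solution. -/
theorem exists_sq_mem_not_scalar (h2 : (2 : L) ≠ 0) (φ : L →ₗ[F] F) {v : L} (hv : v ≠ 0) (hφ : φ v = 0)
    (hne : ∃ x, φ x ≠ 0) : ∃ s : L, φ (s * s * v) = 0 ∧ ∀ t : F, algebraMap F L t ≠ s * s := by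
  obtain ⟨x, hx⟩ := hne
  obtain ⟨w, hw⟩ : ∃ w, w = x / v := ⟨_, rfl⟩
  have hwv : φ (w * v) ≠ 0 := by rwa [hw, div_mul_cancel₀ _ hv]
  have h2F : (2 : F) ≠ 0 := fun h => h2 (by rw [← map_ofNat (algebraMap F L) 2, h, map_zero])
  obtain ⟨d, hd⟩ : ∃ d, d = -(φ (w * w * v) / (2 * φ (w * v))) := ⟨_, rfl⟩
  obtain ⟨s, hsdef⟩ : ∃ s, s = w + algebraMap F L d := ⟨_, rfl⟩
  have hs : φ (s * s * v) = 0 := by
    have e : s * s * v = w * w * v + ((2 * d) • (w * v) + (d * d) • v) := by
      rw [hsdef, Algebra.smul_def, Algebra.smul_def, map_mul, map_mul, map_ofNat]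
      ring
    rw [e, map_add, map_add, map_smul, map_smul, hφ, smul_zero, add_zero, hd, smul_eq_mul]
    field_simp
    ring
  refine ⟨s, hs, fun t ht => ?_⟩
  obtain ⟨t', ht'⟩ := scalar_of_sq hp hr (c := s) (a := t) (b := 0) (by rw [ht, map_zero, zero_mul, add_zero])
  refine hwv ?_
  have : w = algebraMap F L (t' - d) := by rw [map_sub, ht', hsdef, add_sub_cancel_right]
  rw [this, ← Algebra.smul_def, map_smul, hφ, smul_zero]

end CfsgLib.ExtFieldThree
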