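import Cfsg.Agent.Lib.ExtFieldThree.Step

/-!
From transvections of an isotropic line and a map fixing its orthogonal space to all roots inside the line.
-/

set_option autoImplicit false
set_option linter.unusedSectionVars false

namespace CfsgLib.ExtFieldThree

open Matrix QuadraticMap Module CfsgLib.Orth CfsgLib.ExtFieldOrth

variable {F : Type*} [Field F] [Fintype F] {ι : Type} [Fintype ι] [DecidableEq ι]
  {L : Type*} [Field L] [Fintype L] [Algebra F L] [Module L (ι → F)] [IsScalarTower F L (ι → F)]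
  {q : QuadraticForm F (ι → F)} {τ : L →ₗ[F] F} {u n w : ι → F} {M : Subgroup (O q)}

variable (q τ) in
/-- The isometry adds `b (kb x u)` times `u`. -/
def Rep (u : ι → F) (g : O q) (b : L →ₗ[F] L) : Prop :=
  ∀ x, app g x = x + b (kb q τ x u) • u

variable (q τ) in
/-- Some member of `M` adds `b (kb x u)` times `u`. -/
def Realised (M : Subgroup (O q)) (u : ι → F) (b : L →ₗ[F] L) : Prop :=
  ∃ g ∈ M, Rep q τ u g b

variable (τ) in
/-- Antisymmetry for the trace pairing. -/
def Skew (b : L →ₗ[F] L) : Prop := ∀ d e, τ (b d * e) + τ (d * b e) = 0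

variable (τ) in
/-- The map of a root element with centre and axis in the line. -/
def wedge (c d : L) : L →ₗ[F] L :=
  (τ ∘ₗ LinearMap.mulLeft F c).smulRight d - (τ ∘ₗ LinearMap.mulLeft F d).smulRight c

theorem wedge_apply (c d s : L) : wedge τ c d s = τ (c * s) • d - τ (d * s) • c := rfl

theorem wedge_add (c c' d : L) : wedge τ (c + c') d = wedge τ c d + wedge τ c' d :=
  LinearMap.ext fun s => by
    simp only [wedge_apply, LinearMap.add_apply, add_mul, map_add, add_smul, smul_add]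
    abel

theorem wedge_smul (t : F) (c d : L) : wedge τ (t • c) d = t • wedge τ c d :=
  LinearMap.ext fun s => by
    simp only [wedge_apply, LinearMap.smul_apply, smul_mul_assoc, map_smul, smul_sub, smul_smul,
      smul_eq_mul, mul_comm t (τ (d * s))]

theorem wedge_sub (c c' d : L) : wedge τ (c - c') d = wedge τ c d - wedge τ c' d :=
  eq_sub_of_add_eq (by rw [← wedge_add, sub_add_cancel])

theorem Rep.ext {g g' : O q} {b : L →ₗ[F] L} (h : Rep q τ u g b) (h' : Rep q τ u g' b) : g = g' :=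
  ext_app fun x => by rw [h x, h' x]

theorem Trans.mono {M' : Subgroup (O q)} {p : L} (hle : M ≤ M') (h : Trans τ M u p) : Trans τ M' u p :=
  fun k hk => (h k hk).imp fun _ hl => ⟨hle hl.1, hl.2⟩

variable (S : Setup q τ)
include S

theorem sub_mem_of_fix {y : ι → F} {z : O q} (hz : ∀ x, kb q τ y x = 0 → app z x = x) (v : ι → F) :
    app z v - v ∈ line L y := by
  by_contra hn
  obtain ⟨x, hx, hne⟩ := S.exists_orth_not_mem (Submodule.span L {y}) (y := app z v - v) hn
  have hxy : kb q τ y x = 0 := hx y (Submodule.mem_span_singleton_self y)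
  refine hne ?_
  rw [S.kb_comm]
  refine S.kb_eq_zero fun d => ?_
  rw [polar_comm, polar_sub_left]
  conv_lhs => arg 1; rw [← hz (d • x) (by rw [S.kb_smul_right, hxy, mul_zero]), polar_app]
  rw [sub_self]

variable (hu : kb q τ u u = 0)
include hu

theorem Rep.fix {g : O q} {b : L →ₗ[F] L} (h : Rep q τ u g b) (k : L) : app g (k • u) = k • u := by
  rw [h, S.kb_smul_left, hu, mul_zero, map_zero, zero_smul, add_zero]

theorem Rep.mul {g g' : O q} {b b' : L →ₗ[F] L} (h : Rep q τ u g b) (h' : Rep q τ u g' b') :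
    Rep q τ u (g * g') (b + b') := fun x => by
  rw [app_mul, h' x, map_add, h.fix S hu, h x, LinearMap.add_apply, add_smul, add_assoc]

omit hu in
theorem rep_one : Rep q τ u 1 0 := fun x => by
  rw [app_one, LinearMap.zero_apply, zero_smul, add_zero]

theorem Rep.inv {g : O q} {b : L →ₗ[F] L} (h : Rep q τ u g b) : Rep q τ u g⁻¹ (-b) := fun x => by
  apply app_injective g
  rw [app_app_inv, map_add, h x, h.fix S hu, LinearMap.neg_apply, neg_smul, add_neg_cancel_right]

theorem Realised.add {b b' : L →ₗ[F] L} (h : Realised q τ M u b) (h' : Realised q τ M u b') :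
    Realised q τ M u (b + b') := by
  obtain ⟨g, hg, hr⟩ := h
  obtain ⟨g', hg', hr'⟩ := h'
  exact ⟨g * g', M.mul_mem hg hg', hr.mul S hu hr'⟩

theorem Realised.sub {b b' : L →ₗ[F] L} (h : Realised q τ M u b) (h' : Realised q τ M u b') :
    Realised q τ M u (b - b') := by
  obtain ⟨g', hg', hr'⟩ := h'
  rw [sub_eq_add_neg]
  exact h.add S hu ⟨g'⁻¹, M.inv_mem hg', hr'.inv S hu⟩

theorem rep_eich (c d : L) : Rep q τ u (eich q (c • u) (d • u)) (wedge τ c d) := fun x => by
  have h1 : ∀ c : L, q (c • u) = 0 := fun c => (S.line_singular hu (smul_mem_line c u)).1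
  have h2 : ∀ c : L, polar q x (c • u) = τ (c * kb q τ x u) := fun c => by
    rw [S.polar_eq, S.kb_smul_right]
  rw [app_eich (h1 c) (by rw [S.polar_smul_smul, hu, mul_zero, map_zero]), h1, h2, h2, wedge_apply, zero_mul,
    sub_zero, sub_smul, smul_assoc, smul_assoc, neg_smul, sub_eq_add_neg, add_assoc]

theorem eich_mem_of_realised {c d : L} (h : Realised q τ M u (wedge τ c d)) :
    eich q (c • u) (d • u) ∈ M := by
  obtain ⟨g, hg, hr⟩ := h
  rwa [(rep_eich S hu c d).ext hr]

omit hu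
variable (H : Frame q τ u n w)
include H

/-- A map fixing the orthogonal space of a line is given by an antisymmetric map. -/
theorem exists_rep {z : O q} (hz : ∀ x, kb q τ u x = 0 → app z x = x) :
    ∃ b, Rep q τ u z b ∧ Skew τ b := by
  obtain ⟨ev, hev⟩ : ∃ ev, ev = (LinearMap.toSpanSingleton L (ι → F) w).restrictScalars F := ⟨_, rfl⟩
  obtain ⟨b, hb⟩ : ∃ b : L →ₗ[F] L, ∀ d, b d = kb q τ w (app z (d • w) - d • w) :=
    ⟨((S.kB w).restrictScalars F).comp ((app z - LinearMap.id).comp ev), fun d => by rw [hev]; rfl⟩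
  have key : ∀ d : L, app z (d • w) = d • w + b d • u := fun d => by
    obtain ⟨k, hk⟩ := mem_line.1 (sub_mem_of_fix S hz (d • w))
    rw [hb, ← hk, S.kb_smul_right, H.wu S, mul_one, hk, add_sub_cancel]
  refine ⟨b, fun x => ?_, fun d e => ?_⟩
  · have h1 := hz (x - kb q τ x u • w)
      (by rw [S.kb_sub_right, S.kb_smul_right, H.uw, mul_one, S.kb_comm u x, sub_self])
    rw [map_sub, key, sub_eq_iff_eq_add] at h1
    rw [h1]
    abel
  · have h1 := polar_app z (d • w) (e • w)
    rw [key, key] at h1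
    simp only [polar_add_left, polar_add_right, S.polar_smul_smul, H.ww, H.uu, H.uw, H.wu S, mul_zero, mul_one,
      map_zero, zero_add, add_zero] at h1
    exact h1

/-- Antisymmetric maps in odd degree are singular. -/
theorem Skew.exists_ker {b : L →ₗ[F] L} (hb : Skew τ b) (hodd : Odd (finrank F L)) :
    ∃ d, d ≠ 0 ∧ b d = 0 := by
  classical
  have := S.finite
  obtain ⟨e, he⟩ : ∃ e : Basis (Fin (finrank F L)) F L, e = Module.finBasis F L := ⟨_, rfl⟩
  obtain ⟨A, hA⟩ : ∃ A : Matrix (Fin (finrank F L)) (Fin (finrank F L)) F,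
      A = Matrix.of fun i j => τ (b (e i) * e j) := ⟨_, rfl⟩
  have hskew : Aᵀ = -A := by
    ext i j
    simp only [hA, Matrix.transpose_apply, Matrix.neg_apply, Matrix.of_apply]
    have h1 := hb (e j) (e i)
    rw [mul_comm (e j) (b (e i))] at h1
    exact eq_neg_of_add_eq_zero_left h1
  have hdet : A.det = 0 := by
    have h1 := Matrix.det_transpose A
    rw [hskew, Matrix.det_neg, Fintype.card_fin, hodd.neg_one_pow, neg_one_mul] at h1
    have h2 : 2 * A.det = 0 := by linear_combination -h1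
    exact (mul_eq_zero.1 h2).resolve_left S.two
  obtain ⟨v, hv0, hv⟩ := Matrix.exists_vecMul_eq_zero_iff.2 hdet
  refine ⟨∑ i, v i • e i, fun h => hv0 (funext (Fintype.linearIndependent_iff.1 e.linearIndependent v h)), ?_⟩
  refine S.ext_tau fun d => ?_
  rw [mul_zero, map_zero, mul_comm]
  have h1 : (τ ∘ₗ LinearMap.mulLeft F (b (∑ i, v i • e i))) = 0 := e.ext fun j => by
    have := congrFun hv j
    simp only [Matrix.vecMul, dotProduct, hA, Matrix.of_apply, Pi.zero_apply] at this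
    simp only [LinearMap.comp_apply, LinearMap.mulLeft_apply, map_sum, map_smul, Finset.sum_mul, smul_mul_assoc,
      smul_eq_mul, LinearMap.zero_apply, this]
  exact LinearMap.congr_fun h1 d

/-- Transvections and a map fixing the orthogonal space give all the roots inside the line. -/
theorem lineRoots_of_trans (hM : HasLin L M) (hr : 5 ≤ finrank F L) {z : O q} (hz : z ∈ M) (hz1 : z ≠ 1)
    (hfix : ∀ x, kb q τ u x = 0 → app z x = x) {p : L} (hp : p ≠ 0) (hT : Trans τ M u p) : LineRoots L M u := by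
  have := S.finite
  obtain ⟨b, hrep, hskew⟩ := exists_rep S H hfix
  have hb0 : b ≠ 0 := fun h => hz1 (hrep.ext (h ▸ rep_one S))
  have hτp : ∀ b : L →ₗ[F] L, Skew τ b → τ (p * b p) = 0 := fun b hb => by
    have h1 := hb p p
    rw [mul_comm (b p) p, ← two_mul] at h1
    exact (mul_eq_zero.1 h1).resolve_left S.two
  obtain ⟨k₀, hk₀0, hk₀⟩ : ∃ k : L, k ≠ 0 ∧ b (k * k * p) ≠ 0 := by
    by_contra hc
    push Not at hc
    refine hb0 (LinearMap.ext fun x => ?_)
    have h1 := eq_zero_of_squares S.two' (b.toAddMonoidHom.comp (AddMonoidHom.mulRight p)) (fun s => by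
      rcases eq_or_ne s 0 with rfl | hs
      · simp
      · exact hc s hs) (x / p)
    simpa [div_mul_cancel₀ _ hp] using h1
  -- the conjugate by the torus
  obtain ⟨h, hh, hhl, hhu, -⟩ := S.exists_scale_elem hM hk₀0 H.uu H.ww H.uw
  obtain ⟨b₁, hb₁⟩ : ∃ b₁ : L →ₗ[F] L, b₁ =
      LinearMap.mulLeft F (k₀ * k₀) ∘ₗ b ∘ₗ LinearMap.mulLeft F (k₀ * k₀) := ⟨_, rfl⟩
  have hb₁a : ∀ d, b₁ d = k₀ * k₀ * b (k₀ * k₀ * d) := fun d => by rw [hb₁]; rfl
  have hrep₁ : Rep q τ u (h * z * h⁻¹) b₁ := fun x => by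
    have e1 : kb q τ (app h⁻¹ x) u = k₀ * k₀ * kb q τ x u := by
      rw [← kb_app S hhl, app_app_inv, hhu, S.kb_smul_right]
    rw [app_mul, app_mul, hrep, map_add, app_app_inv, hhl, hhu, e1, hb₁a, smul_smul, mul_comm (b _)]
  have hskew₁ : Skew τ b₁ := fun d e => by
    rw [hb₁a, hb₁a]
    convert hskew (k₀ * k₀ * d) (k₀ * k₀ * e) using 3 <;> ring
  obtain ⟨v, hv⟩ : ∃ v, v = b₁ p := ⟨_, rfl⟩
  have hv0 : v ≠ 0 := by rw [hv, hb₁a]; exact mul_ne_zero (mul_ne_zero hk₀0 hk₀0) hk₀
  have hpv : τ (p * v) = 0 := hv ▸ hτp _ hskew₁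
  obtain ⟨z₁, hz₁def⟩ : ∃ z₁, z₁ = h * z * h⁻¹ := ⟨_, rfl⟩
  rw [← hz₁def] at hrep₁
  have hz₁ : z₁ ∈ M := hz₁def ▸ M.mul_mem (M.mul_mem hh hz) (M.inv_mem hh)
  -- commutators with transvections
  have hZ : ∀ k, τ (p * k) = 0 → Realised q τ M u (wedge τ k v) := fun k hk => by
    obtain ⟨l, hl, hlu⟩ := hT k hk
    refine ⟨l * z₁ * l⁻¹ * z₁⁻¹, M.mul_mem (M.mul_mem (M.mul_mem hl hz₁) (M.inv_mem hl)) (M.inv_mem hz₁), ?_⟩
    have h1 : Rep q τ u (l * z₁ * l⁻¹) (b₁ + wedge τ k v) := fun x => by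
      have e1 : kb q τ (app l⁻¹ x) u = kb q τ x u + τ (k * kb q τ x u) • p := S.kb_unique fun e => by
        rw [S.adj, polar_comm, ← polar_app l, app_app_inv, hlu, S.polar_eq, S.kb_smul_left, S.kb_comm u x,
          mul_add, add_mul, map_add, map_add, smul_mul_assoc, mul_smul_comm, map_smul, map_smul,
          smul_eq_mul, smul_eq_mul, mul_comm e p]
        ring
      rw [app_mul, app_mul, hrep₁, map_add, app_app_inv, hlu, e1, map_add, map_smul, ← hv,
        LinearMap.add_apply, wedge_apply]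
      have e2 : τ (p * b₁ (kb q τ x u)) = -τ (v * kb q τ x u) := by
        rw [hv]
        exact eq_neg_of_add_eq_zero_right (hskew₁ p (kb q τ x u))
      rw [mul_add, mul_smul_comm, map_add, map_smul, e2, hpv, smul_zero, add_zero, neg_smul]
      congr 2
      abel
    have := h1.mul S H.uu (hrep₁.inv S H.uu)
    rwa [add_neg_cancel_comm] at this
  -- the twisted hyperplane
  obtain ⟨s, hsv, hsF⟩ := exists_sq_mem_not_scalar S.prime (by omega) S.two' (τ ∘ₗ LinearMap.mulLeft F p) hv0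
    (by simpa using hpv) ⟨p⁻¹, by simp [mul_inv_cancel₀ hp, S.one]⟩
  simp only [LinearMap.comp_apply, LinearMap.mulLeft_apply] at hsv
  have hs0 : s ≠ 0 := fun h => hsF 0 (by rw [h, map_zero, mul_zero])
  obtain ⟨h', hh', hh'l, hh'u, -⟩ := S.exists_scale_elem hM (inv_ne_zero hs0) H.uu H.ww H.uw
  have hT' : ∀ k, τ (p * (s * s * k)) = 0 →
      ∃ l ∈ M, ∀ d : L, app l (d • u) = (d + τ (p * (s * s * d)) • k) • u := fun k hk => by
    obtain ⟨l, hl, hlu⟩ := hT _ hk
    refine ⟨h' * l * h'⁻¹, M.mul_mem (M.mul_mem hh' hl) (M.inv_mem hh'), fun d => ?_⟩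
    have e1 : app h'⁻¹ (d • u) = (s * s * d) • u := app_injective h' (by
      rw [app_app_inv, hh'l, hh'u, smul_smul]; congr 1; field_simp)
    rw [app_mul, app_mul, e1, hlu, hh'l, hh'u, smul_smul]
    congr 1
    rw [add_mul, smul_mul_assoc]
    field_simp
  obtain ⟨k₁, hk₁, hk₁'⟩ : ∃ k, τ (p * k) = 0 ∧ τ (p * (s * s * k)) ≠ 0 := by
    by_contra hc
    push Not at hc
    obtain ⟨x, hx⟩ : ∃ x, x = LinearMap.ker (τ ∘ₗ LinearMap.mulLeft F p) := ⟨_, rfl⟩
    obtain ⟨t, ht⟩ := scalar_of_mul_mem S.prime (Z := x) (γ := s * s)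
      (fun h0 => hv0 ((Submodule.eq_bot_iff _).1 h0 v (by rw [hx, LinearMap.mem_ker]; exact hpv)))
      (fun h1 => by
        have : p⁻¹ ∈ x := h1 ▸ Submodule.mem_top
        rw [hx, LinearMap.mem_ker, LinearMap.comp_apply, LinearMap.mulLeft_apply, mul_inv_cancel₀ hp, S.one]
          at this
        exact one_ne_zero this)
      (fun z hz => by rw [hx, LinearMap.mem_ker] at hz ⊢; exact hc z hz)
    exact hsF t ht
  have hZ' : ∀ k', τ (p * (s * s * k')) = 0 → Realised q τ M u (wedge τ k' v) := fun k' hk' => by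
    obtain ⟨a, ha⟩ : ∃ a, a = τ (p * (s * s * k₁)) := ⟨_, rfl⟩
    obtain ⟨l, hl, hlu⟩ := hT' (a⁻¹ • k') (by rw [mul_smul_comm, mul_smul_comm, map_smul, hk', smul_zero])
    obtain ⟨g, hg, hgr⟩ := hZ k₁ hk₁
    have hge : eich q (k₁ • u) (v • u) = g := (rep_eich S H.uu k₁ v).ext hgr
    have h1 : eich q ((k₁ + k') • u) (v • u) ∈ M := by
      have := M.mul_mem (M.mul_mem hl hg) (M.inv_mem hl)
      rw [← hge, eich_conj (S.line_singular H.uu (smul_mem_line k₁ u)).1
        (by rw [S.polar_smul_smul, H.uu, mul_zero, map_zero]), hlu, hlu, hsv, zero_smul, add_zero, ← ha,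
        smul_inv_smul₀ (ha ▸ hk₁')] at this
      exact this
    have h2 := Realised.sub S H.uu ⟨_, h1, rep_eich S H.uu _ _⟩ (hZ k₁ hk₁)
    rwa [wedge_add, add_sub_cancel_left] at h2
  refine S.lineRoots_of_base hM (H.u_ne S) H.uu hv0 fun d => ?_
  obtain ⟨a, ha⟩ : ∃ a, a = τ (p * (s * s * d)) / τ (p * (s * s * k₁)) := ⟨_, rfl⟩
  have hd : Realised q τ M u (wedge τ d v) := by
    rw [show d = (d - a • k₁) + a • k₁ from (sub_add_cancel d _).symm, wedge_add]
    refine Realised.add S H.uu (hZ' _ ?_) (hZ _ ?_)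
    · rw [mul_sub, mul_sub, mul_smul_comm, mul_smul_comm, map_sub, map_smul, ha, smul_eq_mul,
        div_mul_cancel₀ _ hk₁', sub_self]
    · rw [mul_smul_comm, map_smul, hk₁, smul_zero]
  have h1 := eich_mem_of_realised S H.uu hd
  have hq : ∀ c : L, q (c • u) = 0 := fun c => (S.line_singular H.uu (smul_mem_line c u)).1
  have hp2 : polar q (d • u) (v • u) = 0 := by rw [S.polar_smul_smul, H.uu, mul_zero, map_zero]
  rw [GeomClasses.OrthPair.eich_swap (hq v) (hq d) (by rw [polar_comm]; exact hp2),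
    ← eich_inv (hq d) hp2]
  exact M.inv_mem h1

end CfsgLib.ExtFieldThree
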