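import Cfsg.Agent.Lib.ExtFieldThree.Quad

/-!
Moved lines in a three-dimensional space over the extension field: the steps which enlarge the intersection.
-/

set_option autoImplicit false
set_option linter.unusedSectionVars false

namespace CfsgLib.ExtFieldThree

open Matrix QuadraticMap Module CfsgLib.Orth CfsgLib.ExtFieldOrth

variable {F : Type*} [Field F] [Fintype F] {ι : Type} [Fintype ι] [DecidableEq ι]
  {L : Type*} [Field L] [Fintype L] [Algebra F L] [Module L (ι → F)] [IsScalarTower F L (ι → F)]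
  {q : QuadraticForm F (ι → F)} {τ : L →ₗ[F] F} {u n w : ι → F} {M : Subgroup (O q)} {c : O q}

variable (L) in
/-- The dimension of the intersection of a line with its image. -/
noncomputable def dimE (u : ι → F) (c : O q) : ℕ :=
  finrank F ↥(line L u ⊓ img c (line L u))

variable (q τ) in
/-- The image has a vector outside the line orthogonal to it. -/
def CaseA (u : ι → F) (c : O q) : Prop :=
  ∃ y ∈ img c (line L u), y ∉ line L u ∧ kb q τ y u = 0

variable (q τ) in
/-- The image lies in the orthogonal space of a vector `n + a u`. -/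
def Degenerate (u n : ι → F) (c : O q) : Prop :=
  ∃ a : L, ∀ y ∈ img c (line L u), kb q τ y n + a * kb q τ y u = 0

theorem exists_coord {u : ι → F} (hu : u ≠ 0) {E : Submodule F (ι → F)} (hE : E ≤ line L u) :
    ∃ Z : Submodule F L, (∀ k, k ∈ Z ↔ k • u ∈ E) ∧ finrank F Z = finrank F E := by
  obtain ⟨ev, hev⟩ : ∃ ev, ev = (LinearMap.toSpanSingleton L (ι → F) u).restrictScalars F := ⟨_, rfl⟩
  have heva : ∀ d : L, ev d = d • u := fun d => by rw [hev]; rfl
  have hinj : Function.Injective ev := fun a b h => by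
    rw [heva, heva] at h
    exact smul_left_injective L hu h
  refine ⟨E.comap ev, fun k => by rw [Submodule.mem_comap, heva], ?_⟩
  rw [(Submodule.equivMapOfInjective ev hinj (E.comap ev)).finrank_eq, Submodule.map_comap_eq_of_le]
  intro e he
  obtain ⟨k, hk⟩ := mem_line.1 (hE he)
  exact ⟨k, by rw [heva, hk]⟩

variable (S : Setup q τ)
include S

theorem dimE_lt (P : IsPair q τ M u c) : dimE L u c < finrank F L := by
  by_contra h
  have h1 : line L u ⊓ img c (line L u) = line L u :=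
    Submodule.eq_of_le_of_finrank_le inf_le_left (by rw [finrank_line P.ne]; exact Nat.le_of_not_lt h)
  exact P.move (Submodule.eq_of_le_of_finrank_eq (inf_eq_left.1 h1) (finrank_img _ _).symm).symm

/-- Two members of `M` moving the line to different subspaces. -/
theorem pair_of_two (P : IsPair q τ M u c) {c₂ : O q} (hc₂ : c₂ ∈ M)
    (hne : img c₂ (line L u) ≠ img c (line L u)) {X : Submodule F (ι → F)} (h1 : X ≤ img c (line L u))
    (h2 : X ≤ img c₂ (line L u)) :
    IsPair q τ M u (c⁻¹ * c₂) ∧ finrank F X ≤ dimE L u (c⁻¹ * c₂) := by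
  refine ⟨⟨P.ne, P.sing, M.mul_mem (M.inv_mem P.mem) hc₂, fun e => hne ?_⟩, ?_⟩
  · have h3 := congrArg (img c) e
    rwa [← img_mul, mul_inv_cancel_left] at h3
  · rw [← finrank_img c⁻¹ X]
    refine Submodule.finrank_mono ?_
    rintro _ ⟨x, hx, rfl⟩
    exact ⟨mem_img.1 (h1 hx), by rw [img_mul]; exact app_mem_img (h2 hx)⟩

/-- An element of `M` moving the image, carrying part of it into it. -/
theorem pair_of_move (P : IsPair q τ M u c) {h : O q} (hh : h ∈ M)
    (hne : img h (img c (line L u)) ≠ img c (line L u)) {X : Submodule F (ι → F)} (hX : X ≤ img c (line L u))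
    (hhX : ∀ x ∈ X, app h x ∈ img c (line L u)) :
    IsPair q τ M u (c⁻¹ * (h * c)) ∧ finrank F X ≤ dimE L u (c⁻¹ * (h * c)) := by
  have h1 := pair_of_two S P (M.mul_mem hh P.mem) (by rw [img_mul]; exact hne) (X := img h X)
    (by rintro _ ⟨x, hx, rfl⟩; exact hhX x hx)
    (by rintro _ ⟨x, hx, rfl⟩; rw [img_mul]; exact app_mem_img (hX hx))
  rwa [finrank_img] at h1

variable (hs : finrank L (ι → F) = 3) (H : Frame q τ u n w)
include hs H

theorem Frame.ut_perp (t : L) {x : ι → F} (hx : kb q τ x u = 0) :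
    app (H.ut S t) x = x - (t * kb q τ x n) • u := by
  rw [H.app_ut S, hx]
  simp

theorem Frame.kb_n_ne {x : ι → F} (hx : x ∉ line L u) (h : kb q τ x u = 0) : kb q τ x n ≠ 0 :=
  fun h0 => hx ((H.mem_line_iff S hs).2 ⟨h, h0⟩)

theorem Frame.kb_ut_sub (t : L) (x : ι → F) : kb q τ (app (H.ut S t) x - x) u = 0 := by
  rw [H.app_ut S]
  simp only [S.kb_sub_left, S.kb_add_left, S.kb_smul_left, H.uu, H.nu S]
  ring

theorem Frame.kb_ut_sub_n (t : L) (x : ι → F) :
    kb q τ (app (H.ut S t) x - x) n = t * kb q τ x u * kb q τ n n := by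
  rw [H.app_ut S]
  simp only [S.kb_sub_left, S.kb_add_left, S.kb_smul_left, H.un]
  ring

theorem Frame.kb_ut_sub_w (t : L) (x : ι → F) :
    kb q τ (app (H.ut S t) x - x) w = -(t * kb q τ x n + t * t * kb q τ n n / 2 * kb q τ x u) := by
  rw [H.app_ut S]
  simp only [S.kb_sub_left, S.kb_add_left, S.kb_smul_left, H.uw, H.nw S]
  ring

/-- The step when the image has a vector outside the line orthogonal to it. -/
theorem orth_step (hM : HasLin L M) (P : IsPair q τ M u c) (hd : 1 ≤ dimE L u c)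
    (hdr : dimE L u c + 1 < finrank F L) {y₁ : ι → F} (hy₁ : y₁ ∈ img c (line L u)) (hy₁l : y₁ ∉ line L u)
    (hy₁u : kb q τ y₁ u = 0) :
    (∃ c', IsPair q τ M u c' ∧ dimE L u c + 1 ≤ dimE L u c') ∨
      (finrank F L = 3 ∧ ∃ y ∈ img c (line L u), kb q τ y u ≠ 0 ∧ kb q τ y₁ y = 0 ∧ kb q τ y y ≠ 0) := by
  have := S.finite
  obtain ⟨Y, hY⟩ : ∃ Y, Y = img c (line L u) := ⟨_, rfl⟩
  have hYr : finrank F Y = finrank F L := by rw [hY, finrank_img, finrank_line P.ne]
  obtain ⟨E, hE⟩ : ∃ E, E = line L u ⊓ Y := ⟨_, rfl⟩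
  have hd' : dimE L u c = finrank F E := by rw [hE, hY]; rfl
  rw [hd'] at hd hdr ⊢
  rw [← hY] at hy₁ ⊢
  have hEY : E ≤ Y := hE ▸ inf_le_right
  have hEu : E ≤ line L u := hE ▸ inf_le_left
  obtain ⟨Z, hZ, hZf⟩ := exists_coord P.ne hEu
  obtain ⟨g, hg⟩ : ∃ g, g = kb q τ y₁ n := ⟨_, rfl⟩
  have hg0 : g ≠ 0 := hg ▸ H.kb_n_ne S hs hy₁l hy₁u
  have hy1E : y₁ ∉ E := fun h => hy₁l (hEu h)
  by_cases hmove : ∃ k ∈ Z, img (H.ut S (k / g)) Y ≠ Y
  · obtain ⟨k, hk, hne⟩ := hmove
    left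
    subst hY
    obtain ⟨hP, hdim⟩ := pair_of_move S P (H.ut_mem S hM (k / g)) hne (X := E ⊔ Submodule.span F {y₁})
      (sup_le hEY ((Submodule.span_singleton_le_iff_mem _ _).2 hy₁)) fun x hx => by
        obtain ⟨e, he, v, hv, rfl⟩ := Submodule.mem_sup.1 hx
        obtain ⟨s, rfl⟩ := Submodule.mem_span_singleton.1 hv
        rw [map_add, map_smul, H.ut_line S _ (hEu he), H.ut_perp S hs _ hy₁u, ← hg, div_mul_cancel₀ _ hg0]
        exact Submodule.add_mem _ (hEY he)
          (Submodule.smul_mem _ _ (Submodule.sub_mem _ hy₁ (hEY ((hZ k).1 hk))))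
    refine ⟨_, hP, ?_⟩
    rwa [finrank_sup_one hy1E] at hdim
  push Not at hmove
  right
  have hΔ : ∀ k ∈ Z, ∀ y ∈ Y, app (H.ut S (k / g)) y - y ∈ Y := fun k hk y hy => by
    have h1 := app_mem_img (g := H.ut S (k / g)) hy
    rw [hmove k hk] at h1
    exact Y.sub_mem h1 hy
  have hZ0 : Z ≠ ⊥ := fun h => by rw [h, finrank_bot] at hZf; omega
  have hZ1 : Z ≠ ⊤ := fun h => by rw [h, finrank_top] at hZf; omega
  obtain ⟨k₀, hk₀, hk₀0⟩ := Submodule.exists_mem_ne_zero_of_ne_bot hZ0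
  -- the vectors orthogonal to the line
  have hperp : ∀ y ∈ Y, kb q τ y u = 0 → ∃ s : F, y - s • y₁ ∈ E := fun y hy hyu => by
    obtain ⟨s, hs'⟩ := scalar_of_mul_mem S.prime hZ0 hZ1 (γ := kb q τ y n / g) fun k hk => by
      have h1 := hΔ k hk y hy
      rw [H.ut_perp S hs _ hyu, sub_sub_cancel_left] at h1
      rw [hZ, hE]
      refine ⟨smul_mem_line _ u, ?_⟩
      have h2 := Y.neg_mem h1
      rwa [neg_neg, show k / g * kb q τ y n = kb q τ y n / g * k by ring] at h2
    refine ⟨s, ?_⟩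
    rw [hE]
    refine ⟨(H.mem_line_iff S hs).2 ⟨?_, ?_⟩, Y.sub_mem hy (Y.smul_mem _ hy₁)⟩
    · rw [S.kb_sub_left, ← algebraMap_smul L s y₁, S.kb_smul_left, hyu, hy₁u, mul_zero, sub_zero]
    · rw [S.kb_sub_left, ← algebraMap_smul L s y₁, S.kb_smul_left, hs', ← hg, div_mul_cancel₀ _ hg0, sub_self]
  have key : ∀ k ∈ Z, ∀ y ∈ Y, ∃ (s : F) (m : L), m ∈ Z ∧
      k / g * kb q τ y u * kb q τ n n = algebraMap F L s * g ∧
      -(k / g * kb q τ y n + k / g * (k / g) * kb q τ n n / 2 * kb q τ y u) =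
        m + algebraMap F L s * kb q τ y₁ w := by
    intro k hk y hy
    obtain ⟨s, hsE⟩ := hperp _ (hΔ k hk y hy) (H.kb_ut_sub S hs _ y)
    obtain ⟨m, hm⟩ := mem_line.1 (hEu hsE)
    have e : app (H.ut S (k / g)) y - y = m • u + algebraMap F L s • y₁ := by
      rw [hm, algebraMap_smul, sub_add_cancel]
    refine ⟨s, m, (hZ m).2 (hm.symm ▸ hsE), ?_, ?_⟩
    · have h1 := H.kb_ut_sub_n S hs (k / g) y
      rw [e, S.kb_add_left, S.kb_smul_left, S.kb_smul_left, H.un, mul_zero, zero_add, ← hg] at h1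
      exact h1.symm
    · have h1 := H.kb_ut_sub_w S hs (k / g) y
      rw [e, S.kb_add_left, S.kb_smul_left, S.kb_smul_left, H.uw, mul_one] at h1
      exact h1.symm
  obtain ⟨y, hy, hyu⟩ : ∃ y ∈ Y, kb q τ y u ≠ 0 := by
    by_contra hc
    push Not at hc
    have hle : Y ≤ E ⊔ Submodule.span F {y₁} := fun y hy => by
      obtain ⟨s, hs'⟩ := hperp y hy (hc y hy)
      rw [← sub_add_cancel y (s • y₁)]
      exact Submodule.add_mem_sup hs' (Submodule.smul_mem _ _ (Submodule.mem_span_singleton_self _))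
    have h1 := Submodule.finrank_mono hle
    rw [finrank_sup_one hy1E] at h1
    omega
  have hη := H.nn
  obtain ⟨s₀, m₀, hm₀, ea, eb⟩ := key k₀ hk₀ y hy
  have hs₀ : algebraMap F L s₀ ≠ 0 := fun h => by
    rw [h, zero_mul] at ea
    exact mul_ne_zero (mul_ne_zero (div_ne_zero hk₀0 hg0) hyu) hη ea
  have hZle : Z ≤ Submodule.span F {k₀} := fun k hk => by
    obtain ⟨s, m, -, ea', -⟩ := key k hk y hy
    refine Submodule.mem_span_singleton.2 ⟨s / s₀, ?_⟩
    rw [Algebra.smul_def, map_div₀]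
    field_simp at ea ea' ⊢
    refine mul_right_cancel₀ hyu (mul_right_cancel₀ hη ?_)
    linear_combination algebraMap F L s * ea - algebraMap F L s₀ * ea'
  have hd1 : finrank F E = 1 := by
    have h1 := Submodule.finrank_mono hZle
    rw [finrank_span_singleton hk₀0] at h1
    omega
  have hr3 : finrank F L = 3 := by
    obtain ⟨φ, hφ⟩ : ∃ φ : Y →ₗ[F] L, ∀ x : Y,
        φ x = k₀ / g * kb q τ n n / g * kb q τ u (x : ι → F) :=
      ⟨(LinearMap.mulLeft F (k₀ / g * kb q τ n n / g)).comp (((S.kB u).restrictScalars F).comp Y.subtype),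
        fun x => rfl⟩
    have h1 := LinearMap.finrank_range_add_finrank_ker φ
    have h2 : LinearMap.range φ ≤ Submodule.span F {(1 : L)} := by
      rintro _ ⟨x, rfl⟩
      obtain ⟨s, m, -, ea', -⟩ := key k₀ hk₀ _ x.2
      refine Submodule.mem_span_singleton.2 ⟨s, ?_⟩
      rw [hφ, S.kb_comm u, Algebra.smul_def, mul_one]
      field_simp at ea' ⊢
      linear_combination -ea'
    have h3 : (LinearMap.ker φ).map Y.subtype ≤ E ⊔ Submodule.span F {y₁} := by
      rintro _ ⟨x, hx, rfl⟩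
      have hx0 : kb q τ (x : ι → F) u = 0 := by
        rw [SetLike.mem_coe, LinearMap.mem_ker, hφ, S.kb_comm u] at hx
        exact (mul_eq_zero.1 hx).resolve_left
          (div_ne_zero (mul_ne_zero (div_ne_zero hk₀0 hg0) hη) hg0)
      obtain ⟨s, hs'⟩ := hperp _ x.2 hx0
      rw [Submodule.coe_subtype, ← sub_add_cancel (x : ι → F) (s • y₁)]
      exact Submodule.add_mem_sup hs' (Submodule.smul_mem _ _ (Submodule.mem_span_singleton_self _))
    have h4 := Submodule.finrank_mono h2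
    have h5 := Submodule.finrank_mono h3
    rw [finrank_span_singleton (one_ne_zero : (1 : L) ≠ 0)] at h4
    rw [← (Submodule.equivMapOfInjective _ Y.subtype_injective _).finrank_eq, finrank_sup_one hy1E] at h5
    omega
  refine ⟨hr3, ?_⟩
  obtain ⟨s', hs'⟩ := Submodule.mem_span_singleton.1 (hZle hm₀)
  rw [Algebra.smul_def] at hs'
  obtain ⟨y', hy'⟩ : ∃ y', y' = y + (s' + s₀ / 2) • y₁ := ⟨_, rfl⟩
  have hy'Y : y' ∈ Y := hy' ▸ Y.add_mem hy (Y.smul_mem _ hy₁)
  have hy'u : kb q τ y' u = kb q τ y u := by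
    rw [hy', S.kb_add_left, ← algebraMap_smul L (s' + s₀ / 2) y₁, S.kb_smul_left, hy₁u, mul_zero, add_zero]
  have h11 : kb q τ y₁ y₁ = g * g / kb q τ n n := by
    conv_lhs => arg 4; rw [H.expand S hs y₁]
    rw [hy₁u, zero_smul, add_zero, S.kb_add_right, S.kb_smul_right, S.kb_smul_right, hy₁u, mul_zero, zero_add,
      ← hg]
    ring
  have h1y : kb q τ y₁ y' = 0 := by
    have e : kb q τ y₁ y = kb q τ y₁ w * kb q τ y u + g / kb q τ n n * kb q τ y n := by
      conv_lhs => arg 3; rw [H.expand S hs y₁]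
      rw [hy₁u, zero_smul, add_zero, S.kb_add_left, S.kb_smul_left, S.kb_smul_left, S.kb_comm u y,
        S.kb_comm n y, ← hg]
    rw [hy', ← algebraMap_smul L (s' + s₀ / 2) y₁, S.kb_add_right, S.kb_smul_right, e, h11, map_add, map_div₀,
      map_ofNat]
    have h2 := S.two'
    rw [← hs'] at eb
    field_simp at ea eb ⊢
    refine mul_left_cancel₀ hk₀0 ?_
    rw [mul_zero]
    linear_combination (2 * kb q τ y₁ w - k₀) * ea - eb
  by_cases h0 : kb q τ y' y' = 0
  · refine ⟨k₀ • u + y', Y.add_mem (hEY ((hZ k₀).1 hk₀)) hy'Y, ?_, ?_, ?_⟩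
    · rw [S.kb_add_left, S.kb_smul_left, H.uu, mul_zero, zero_add, hy'u]; exact hyu
    · rw [S.kb_add_right, S.kb_smul_right, hy₁u, mul_zero, zero_add, h1y]
    · rw [S.kb_add_left, S.kb_add_right, S.kb_add_right, S.kb_smul_left, S.kb_smul_left, S.kb_smul_right,
        S.kb_smul_right, H.uu, h0, S.kb_comm u y', hy'u]
      simp only [mul_zero, zero_add, add_zero, ← two_mul]
      exact mul_ne_zero S.two' (mul_ne_zero hk₀0 hyu)
  · exact ⟨y', hy'Y, hy'u ▸ hyu, h1y, h0⟩

/-- Conjugating by the unipotent radical creates a vector orthogonal to the line. -/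
theorem twist_core (hM : HasLin L M) (P : IsPair q τ M u c) (hA : ¬ CaseA q τ (L := L) u c) {t : L}
    (ht : t ≠ 0) {y' : ι → F} (hy' : y' ∈ img c (line L u)) (hy'l : y' ∉ line L u)
    (hcond : ∀ y ∈ img c (line L u), τ (t * (kb q τ y' u * kb q τ y n - kb q τ y' n * kb q τ y u) -
      t * t * kb q τ n n / 2 * kb q τ y' u * kb q τ y u) = 0) :
    ∃ c', IsPair q τ M u c' ∧ dimE L u c ≤ dimE L u c' ∧ CaseA q τ (L := L) u c' := by
  obtain ⟨T, hT⟩ : ∃ T, T = H.ut S t := ⟨_, rfl⟩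
  have hTy : app T y' ∉ img c (line L u) := fun h => by
    have h1 := Submodule.sub_mem _ h hy'
    by_cases hl : app T y' - y' ∈ line L u
    · have h2 := ((H.mem_line_iff S hs).1 hl).2
      rw [hT, H.kb_ut_sub_n S hs, mul_eq_zero, mul_eq_zero] at h2
      exact hA ⟨y', hy', hy'l, (h2.resolve_right H.nn).resolve_left ht⟩
    · exact hA ⟨_, h1, hl, hT ▸ H.kb_ut_sub S hs t y'⟩
  have hne : img T (img c (line L u)) ≠ img c (line L u) := fun e => hTy (e ▸ app_mem_img hy')
  obtain ⟨hP, hdim⟩ := pair_of_move S P (hT ▸ H.ut_mem S hM t) hne (X := line L u ⊓ img c (line L u))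
    inf_le_right fun x hx => by rw [hT, H.ut_line S t hx.1]; exact hx.2
  refine ⟨_, hP, hdim, app c⁻¹ (app T y'), ?_, fun h => hTy ?_, ?_⟩
  · rw [img_mul, img_mul]
    exact app_mem_img (app_mem_img hy')
  · have h1 := app_mem_img (g := c) h
    rwa [app_app_inv] at h1
  · rw [S.kb_comm]
    refine S.kb_eq_zero fun k => ?_
    rw [← polar_app c, app_app_inv]
    have hk : app c (k • u) ∈ img c (line L u) := app_mem_img (smul_mem_line k u)
    have e : kb q τ (app T y') (app c (k • u)) = kb q τ y' (app c (k • u)) +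
        (t * (kb q τ y' u * kb q τ (app c (k • u)) n - kb q τ y' n * kb q τ (app c (k • u)) u) -
          t * t * kb q τ n n / 2 * kb q τ y' u * kb q τ (app c (k • u)) u) := by
      rw [hT, H.app_ut S, S.kb_sub_left, S.kb_add_left, S.kb_smul_left, S.kb_smul_left,
        S.kb_comm n (app c (k • u)), S.kb_comm u (app c (k • u))]
      ring
    rw [polar_comm, S.polar_eq, e, map_add, hcond _ hk, add_zero, ← S.polar_eq,
      S.polar_img_line P.sing c hy' hk]

/-- The twist at a hyperplane. -/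
theorem twist_hyperplane (hM : HasLin L M) (P : IsPair q τ M u c) (hA : ¬ CaseA q τ (L := L) u c)
    (hd : dimE L u c + 1 = finrank F L) (hr : 3 ≤ finrank F L) :
    ∃ c', IsPair q τ M u c' ∧ dimE L u c ≤ dimE L u c' ∧ CaseA q τ (L := L) u c' := by
  have := S.finite
  obtain ⟨y', hy', hy'l⟩ : ∃ y' ∈ img c (line L u), y' ∉ line L u := by
    by_contra hc
    push Not at hc
    exact P.move (Submodule.eq_of_le_of_finrank_eq hc (finrank_img _ _))
  have hβ : kb q τ y' u ≠ 0 := fun h => hA ⟨y', hy', hy'l, h⟩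
  have hker : finrank F L < 2 * finrank F (LinearMap.ker τ) := by
    have h1 := LinearMap.finrank_range_add_finrank_ker τ
    have h2 := Submodule.finrank_le (LinearMap.range τ)
    rw [Module.finrank_self] at h2
    omega
  obtain ⟨t, ht, htQ⟩ := exists_sq_mem (LinearMap.ker τ) hker
    (mul_ne_zero (mul_ne_zero (div_ne_zero H.nn S.two') hβ) hβ)
  refine twist_core S hs H hM P hA ht hy' hy'l fun y hy => ?_
  have hY : img c (line L u) = line L u ⊓ img c (line L u) ⊔ Submodule.span F {y'} :=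
    (Submodule.eq_of_le_of_finrank_eq (sup_le inf_le_right ((Submodule.span_singleton_le_iff_mem _ _).2 hy'))
      (by
        rw [finrank_sup_one fun h => hy'l (Submodule.mem_inf.1 h).1, finrank_img, finrank_line P.ne]
        exact hd)).symm
  rw [hY] at hy
  obtain ⟨e, he, v, hv, rfl⟩ := Submodule.mem_sup.1 hy
  obtain ⟨s, rfl⟩ := Submodule.mem_span_singleton.1 hv
  obtain ⟨e1, e2⟩ := (H.mem_line_iff S hs).1 he.1
  rw [LinearMap.mem_ker] at htQ
  have e3 : t * (kb q τ y' u * (0 + algebraMap F L s * kb q τ y' n) -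
      kb q τ y' n * (0 + algebraMap F L s * kb q τ y' u)) -
      t * t * kb q τ n n / 2 * kb q τ y' u * (0 + algebraMap F L s * kb q τ y' u) =
      -(s • (t * t * (kb q τ n n / 2 * kb q τ y' u * kb q τ y' u))) := by
    rw [Algebra.smul_def]; ring
  rw [← algebraMap_smul L s y', S.kb_add_left, S.kb_add_left, S.kb_smul_left, S.kb_smul_left, e1, e2, e3,
    map_neg, map_smul, htQ, smul_zero, neg_zero]

/-- The twist in the degenerate case. -/
theorem twist_degenerate (hM : HasLin L M) (P : IsPair q τ M u c) (hA : ¬ CaseA q τ (L := L) u c)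
    (hd : 1 ≤ dimE L u c) (hodd : Odd (finrank F L)) (hg : Degenerate q τ (L := L) u n c) :
    ∃ c', IsPair q τ M u c' ∧ dimE L u c ≤ dimE L u c' ∧ CaseA q τ (L := L) u c' := by
  have := S.finite
  obtain ⟨a, ha⟩ := hg
  obtain ⟨Y, hY⟩ : ∃ Y, Y = img c (line L u) := ⟨_, rfl⟩
  obtain ⟨β, hβ⟩ : ∃ β : Y →ₗ[F] L, ∀ x : Y, β x = kb q τ u (x : ι → F) :=
    ⟨((S.kB u).restrictScalars F).comp Y.subtype, fun x => rfl⟩
  obtain ⟨B, hB⟩ : ∃ B, B = LinearMap.range β := ⟨_, rfl⟩
  have hBfin : finrank F B + dimE L u c = finrank F L := by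
    have h1 := LinearMap.finrank_range_add_finrank_ker β
    have h2 : (LinearMap.ker β).map Y.subtype = line L u ⊓ Y := by
      refine le_antisymm ?_ fun x hx => ⟨⟨x, hx.2⟩, ?_, rfl⟩
      · rintro _ ⟨x, hx, rfl⟩
        rw [SetLike.mem_coe, LinearMap.mem_ker, hβ, S.kb_comm] at hx
        refine ⟨?_, x.2⟩
        by_contra hl
        exact hA ⟨x, hY ▸ x.2, hl, hx⟩
      · rw [SetLike.mem_coe, LinearMap.mem_ker, hβ, S.kb_comm]
        exact ((H.mem_line_iff S hs).1 hx.1).1
    rw [(Submodule.equivMapOfInjective _ Y.subtype_injective (LinearMap.ker β)).finrank_eq, h2, ← hB] at h1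
    have hYr : finrank F Y = finrank F L := by rw [hY, finrank_img, finrank_line P.ne]
    rw [dimE, ← hY]
    omega
  obtain ⟨Ψ, hΨ⟩ : ∃ Ψ : L →ₗ[F] Module.Dual F B, ∀ (x : L) (b : B), Ψ x b = τ ((b : L) * x) :=
    ⟨(Submodule.dualRestrict B).comp (dmap τ), fun x b => rfl⟩
  have hperp : dimE L u c ≤ finrank F (LinearMap.ker Ψ) := by
    have h1 := LinearMap.finrank_range_add_finrank_ker Ψ
    have h2 := Submodule.finrank_le (LinearMap.range Ψ)
    rw [Subspace.dual_finrank_eq] at h2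
    omega
  have hcore : ∀ (t : L) (y' : Y), t ≠ 0 → β y' ≠ 0 →
      t * t * (kb q τ n n / 2) * β y' ∈ LinearMap.ker Ψ →
      ∃ c', IsPair q τ M u c' ∧ dimE L u c ≤ dimE L u c' ∧ CaseA q τ (L := L) u c' := by
    intro t y' ht hy'0 hmem
    rw [hβ, S.kb_comm u] at hy'0 hmem
    refine twist_core S hs H hM P hA ht (hY ▸ y'.2) (fun h => hy'0 ((H.mem_line_iff S hs).1 h).1) fun y hy => ?_
    have hyB : kb q τ y u ∈ B := hB ▸ ⟨⟨y, hY ▸ hy⟩, by rw [hβ, S.kb_comm]⟩
    have h1 := LinearMap.congr_fun (LinearMap.mem_ker.1 hmem) ⟨_, hyB⟩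
    rw [hΨ, LinearMap.zero_apply] at h1
    have e1 : kb q τ y n = -(a * kb q τ y u) := eq_neg_of_add_eq_zero_left (ha y hy)
    have e2 : kb q τ (y' : ι → F) n = -(a * kb q τ (y' : ι → F) u) :=
      eq_neg_of_add_eq_zero_left (ha _ (hY ▸ y'.2))
    have e3 : t * (kb q τ (y' : ι → F) u * -(a * kb q τ y u) - -(a * kb q τ (y' : ι → F) u) * kb q τ y u) -
        t * t * kb q τ n n / 2 * kb q τ (y' : ι → F) u * kb q τ y u =
        -(kb q τ y u * (t * t * (kb q τ n n / 2) * kb q τ (y' : ι → F) u)) := by ring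
    rw [e1, e2, e3, map_neg, neg_eq_zero]
    exact h1
  have hη2 : kb q τ n n / 2 ≠ 0 := div_ne_zero H.nn S.two'
  have hlt := dimE_lt S P
  by_cases hbig : finrank F L < 2 * dimE L u c
  · obtain ⟨b, hb, hb0⟩ := Submodule.exists_mem_ne_zero_of_ne_bot (p := B) fun h => by
      rw [h, finrank_bot] at hBfin; omega
    rw [hB] at hb
    obtain ⟨y', rfl⟩ := hb
    obtain ⟨t, ht, htQ⟩ := exists_sq_mem (LinearMap.ker Ψ) (by omega) (mul_ne_zero hη2 hb0)
    exact hcore t y' ht hb0 (by rw [mul_assoc]; exact htQ)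
  · obtain ⟨k, hk, hk0⟩ := Submodule.exists_mem_ne_zero_of_ne_bot (p := LinearMap.ker Ψ) fun h => by
      rw [h, finrank_bot] at hperp; omega
    obtain ⟨m, hm⟩ := hodd
    obtain ⟨s, hs0, hsB⟩ := exists_sq_mem B (by omega) (div_ne_zero hk0 hη2)
    rw [hB] at hsB
    obtain ⟨y', hy'⟩ := hsB
    refine hcore s⁻¹ y' (inv_ne_zero hs0) (hy' ▸ mul_ne_zero (mul_ne_zero hs0 hs0) (div_ne_zero hk0 hη2)) ?_
    rw [hy']
    convert hk using 1
    field_simp
    exact div_self (mul_ne_zero H.nn S.two')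

/-- The step when `M` is normalised by the negation of `n`. -/
theorem z_step (P : IsPair q τ M u c) (hA : ¬ CaseA q τ (L := L) u c)
    (hN : ∀ g ∈ M, kN S H.nn * g * (kN S H.nn)⁻¹ ∈ M) (hML : HasLin L M) :
    (∃ c', IsPair q τ M u c' ∧ dimE L u c + 1 ≤ dimE L u c') ∨ Degenerate q τ (L := L) u n c := by
  obtain ⟨y, hy, hyl⟩ : ∃ y ∈ img c (line L u), y ∉ line L u := by
    by_contra hc
    push Not at hc
    exact P.move (Submodule.eq_of_le_of_finrank_eq hc (finrank_img _ _))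
  have hβ : kb q τ y u ≠ 0 := fun h => hA ⟨y, hy, hyl, h⟩
  obtain ⟨a, hadef⟩ : ∃ a, a = -(kb q τ y n / kb q τ y u) := ⟨_, rfl⟩
  have hTn : app (H.ut S (-a / kb q τ n n)) n = n + a • u := by
    rw [H.ut_perp S hs _ (H.nu S)]
    match_scalars <;> field_simp [H.nn]
  have hη : kb q τ (n + a • u) (n + a • u) = kb q τ n n := by
    simp only [S.kb_add_left, S.kb_add_right, S.kb_smul_left, S.kb_smul_right, H.uu, H.un, H.nu S]
    ring
  have ha0 : kb q τ (n + a • u) (n + a • u) ≠ 0 := hη ▸ H.nn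
  obtain ⟨z, hz⟩ : ∃ z, z = kN S ha0 := ⟨_, rfl⟩
  have hT0 : kb q τ (app (H.ut S (-a / kb q τ n n)) n) (app (H.ut S (-a / kb q τ n n)) n) ≠ 0 := by
    rw [kb_app S (H.ut_lin S _)]; exact H.nn
  have hzT : z = H.ut S (-a / kb q τ n n) * kN S H.nn * (H.ut S (-a / kb q τ n n))⁻¹ := by
    rw [kN_conj S H.nn (H.ut_lin S _) hT0, hz]
    congr 1
    exact hTn.symm
  have hzx : ∀ x, kb q τ x (n + a • u) = kb q τ x n + a * kb q τ x u := fun x => by
    rw [S.kb_add_right, S.kb_smul_right]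
  have hzy : app z y = -y := by
    rw [hz]
    refine kN_neg S ha0 ?_
    rw [hzx, hadef]
    field_simp
    ring
  have hzl : ∀ x ∈ line L u, app z x = -x := fun x hx => by
    obtain ⟨k, rfl⟩ := mem_line.1 hx
    rw [hz]
    exact kN_neg S ha0 (by rw [hzx, S.kb_smul_left, S.kb_smul_left, H.un, H.uu]; ring)
  have hzimg : img z (line L u) = line L u :=
    Submodule.eq_of_le_of_finrank_eq (by
      rintro _ ⟨x, hx, rfl⟩; rw [hzl x hx]; exact Submodule.neg_mem _ hx) (finrank_img _ _)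
  have hzinv : z⁻¹ = z := by rw [hz, kN_inv]
  have hvu : kb q τ (n + a • u) u = 0 := by
    rw [S.kb_add_left, S.kb_smul_left, H.uu, H.nu S, mul_zero, add_zero]
  have hvn : kb q τ (n + a • u) n = kb q τ n n := by
    rw [S.kb_add_left, S.kb_smul_left, H.un, mul_zero, add_zero]
  by_cases hfix : img z (img c (line L u)) = img c (line L u)
  · right
    refine ⟨a, fun x hx => ?_⟩
    have h1 : app z x + x ∈ img c (line L u) :=
      Submodule.add_mem _ (hfix ▸ app_mem_img hx) hx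
    rw [hz, app_kN, sub_add_cancel] at h1
    have h2 : (2 / kb q τ (n + a • u) (n + a • u) * kb q τ x (n + a • u)) • (n + a • u) ∈ line L u := by
      by_contra hl
      exact hA ⟨_, h1, hl, by rw [S.kb_smul_left, hvu, mul_zero]⟩
    have h3 := ((H.mem_line_iff S hs).1 h2).2
    rw [S.kb_smul_left, hvn, mul_eq_zero, mul_eq_zero] at h3
    rw [← hzx]
    exact (h3.resolve_right H.nn).resolve_left (div_ne_zero S.two' ha0)
  left
  have hc₂ : z * c * z⁻¹ ∈ M := by
    have hT := H.ut_mem S hML (-a / kb q τ n n)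
    generalize H.ut S (-a / kb q τ n n) = T at hT hzT
    have h1 := hN _ (M.mul_mem (M.mul_mem (M.inv_mem hT) P.mem) hT)
    have h2 := M.mul_mem (M.mul_mem hT h1) (M.inv_mem hT)
    convert h2 using 1
    rw [hzT]
    group
  have himg : img (z * c * z⁻¹) (line L u) = img z (img c (line L u)) := by
    rw [img_mul, hzinv, hzimg, img_mul]
  obtain ⟨hP, hdim⟩ := pair_of_two S P hc₂ (by rw [himg]; exact hfix)
    (X := line L u ⊓ img c (line L u) ⊔ Submodule.span F {y})
    (sup_le inf_le_right ((Submodule.span_singleton_le_iff_mem _ _).2 hy)) (by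
      rw [himg]
      refine sup_le (fun x hx => ?_) ((Submodule.span_singleton_le_iff_mem _ _).2 ?_)
      · rw [mem_img, hzinv, hzl x hx.1]; exact Submodule.neg_mem _ hx.2
      · rw [mem_img, hzinv, hzy]; exact Submodule.neg_mem _ hy)
  refine ⟨_, hP, ?_⟩
  rwa [finrank_sup_one fun h => hyl (Submodule.mem_inf.1 h).1] at hdim

/-- Climbing to a hyperplane. -/
theorem climb (hM : HasLin L M) (hN : ∀ g ∈ M, kN S H.nn * g * (kN S H.nn)⁻¹ ∈ M) (hr : 5 ≤ finrank F L)
    (P : IsPair q τ M u c) (hd : 1 ≤ dimE L u c) :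
    ∃ c', IsPair q τ M u c' ∧ dimE L u c' + 1 = finrank F L ∧ CaseA q τ (L := L) u c' := by
  have hodd : Odd (finrank F L) := S.prime.odd_of_ne_two (by omega)
  suffices h : ∀ (k : ℕ) (c : O q), IsPair q τ M u c → 1 ≤ dimE L u c → finrank F L ≤ dimE L u c + k + 1 →
      ∃ c', IsPair q τ M u c' ∧ dimE L u c' + 1 = finrank F L ∧ CaseA q τ (L := L) u c' from
    h (finrank F L) c P hd (by omega)
  intro k
  induction k with
  | zero =>
    intro c P _ hk
    have hlt := dimE_lt S P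
    by_cases hA : CaseA q τ (L := L) u c
    · exact ⟨c, P, by omega, hA⟩
    · obtain ⟨c', P', hd', hA'⟩ := twist_hyperplane S hs H hM P hA (by omega) (by omega)
      exact ⟨c', P', by have := dimE_lt S P'; omega, hA'⟩
  | succ k ih =>
    intro c P hd hk
    have stepA : ∀ c, IsPair q τ M u c → 1 ≤ dimE L u c → finrank F L ≤ dimE L u c + (k + 1) + 1 →
        CaseA q τ (L := L) u c →
        ∃ c', IsPair q τ M u c' ∧ dimE L u c' + 1 = finrank F L ∧ CaseA q τ (L := L) u c' := by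
      intro c P hd hk hA
      by_cases htop : dimE L u c + 1 = finrank F L
      · exact ⟨c, P, htop, hA⟩
      have hlt := dimE_lt S P
      obtain ⟨y₁, hy₁, hy₁l, hy₁u⟩ := hA
      rcases orth_step S hs H hM P hd (by omega) hy₁ hy₁l hy₁u with ⟨c', P', hd'⟩ | ⟨h3, -⟩
      · exact ih c' P' (by omega) (by omega)
      · omega
    by_cases hA : CaseA q τ (L := L) u c
    · exact stepA c P hd hk hA
    by_cases htop : dimE L u c + 1 = finrank F L
    · exact ih c P hd (by omega)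
    rcases z_step S hs H P hA hN hM with ⟨c', P', hd'⟩ | hg
    · exact ih c' P' (by omega) (by omega)
    · obtain ⟨c', P', hd', hA'⟩ := twist_degenerate S hs H hM P hA hd hodd hg
      exact stepA c' P' (by omega) (by omega) hA'

omit hs H

variable (τ) in
/-- Transvections of the line in `M`, all those with a given hyperplane. -/
def Trans (M : Subgroup (O q)) (u : ι → F) (p : L) : Prop :=
  ∀ k : L, τ (p * k) = 0 → ∃ l ∈ M, ∀ d : L, app l (d • u) = (d + τ (p * d) • k) • u

include hs H in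
/-- A hyperplane intersection gives transvections. -/
theorem trans_of_hyperplane (hM : HasLin L M) (P : IsPair q τ M u c) (hd : dimE L u c + 1 = finrank F L)
    (hA : CaseA q τ (L := L) u c) : ∃ p, p ≠ 0 ∧ Trans τ M u p := by
  have := S.finite
  obtain ⟨y₁, hy₁, hy₁l, hy₁u⟩ := hA
  obtain ⟨E, hE⟩ : ∃ E, E = line L u ⊓ img c (line L u) := ⟨_, rfl⟩
  have hEu : E ≤ line L u := hE ▸ inf_le_left
  have hEY : E ≤ img c (line L u) := hE ▸ inf_le_right
  have hEfin : finrank F E + 1 = finrank F L := by rw [hE]; exact hd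
  have hYdec : img c (line L u) = E ⊔ Submodule.span F {y₁} :=
    (Submodule.eq_of_le_of_finrank_eq (sup_le hEY ((Submodule.span_singleton_le_iff_mem _ _).2 hy₁))
      (by rw [finrank_sup_one fun h => hy₁l (hEu h), finrank_img, finrank_line P.ne, hEfin])).symm
  obtain ⟨Z, hZ, hZf⟩ := exists_coord P.ne hEu
  obtain ⟨d₀, hd₀⟩ : ∃ d₀, d₀ ∉ Z := by
    by_contra hc
    push Not at hc
    have : Z = ⊤ := eq_top_iff.2 fun x _ => hc x
    rw [this, finrank_top] at hZf
    omega
  obtain ⟨f, hf, hfZ⟩ := Z.exists_le_ker_of_notMem hd₀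
  obtain ⟨p, hp⟩ := S.dmap_surjective ((f d₀)⁻¹ • f)
  have hp' : ∀ d, τ (p * d) = (f d₀)⁻¹ * f d := fun d => by
    rw [mul_comm]; exact LinearMap.congr_fun hp d
  have hp1 : τ (p * d₀) = 1 := by rw [hp', inv_mul_cancel₀ hf]
  have hdec : ∀ d, d - τ (p * d) • d₀ ∈ Z := by
    have hker : LinearMap.ker f = Z := by
      symm
      refine Submodule.eq_of_le_of_finrank_eq hfZ ?_
      have h1 := LinearMap.finrank_range_add_finrank_ker f
      have h2 : LinearMap.range f = ⊤ :=
        LinearMap.range_eq_top.2 fun t => ⟨(t / f d₀) • d₀, by rw [map_smul, smul_eq_mul, div_mul_cancel₀ _ hf]⟩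
      rw [h2, finrank_top, Module.finrank_self] at h1
      omega
    intro d
    rw [← hker, LinearMap.mem_ker, map_sub, map_smul, hp', smul_eq_mul]
    field_simp
    ring
  refine ⟨p, fun h => by rw [h, zero_mul, map_zero] at hp1; exact zero_ne_one hp1, fun k hk => ?_⟩
  have hkZ : k ∈ Z := by
    have := hdec k
    rwa [hk, zero_smul, sub_zero] at this
  obtain ⟨y', hy'def⟩ : ∃ y', y' = app c⁻¹ (d₀ • u) := ⟨_, rfl⟩
  have hy'l : y' ∉ line L u := fun h => hd₀ ((hZ d₀).2 (by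
    rw [hE]
    refine Submodule.mem_inf.2 ⟨smul_mem_line d₀ u, ?_⟩
    rw [mem_img, ← hy'def]; exact h))
  have hy'u : kb q τ y' u = 0 := by
    rw [S.kb_comm]
    refine S.kb_eq_zero fun e => ?_
    rw [hy'def, ← polar_app c, app_app_inv]
    have hmem : app c (e • u) ∈ img c (line L u) := app_mem_img (smul_mem_line e u)
    rw [hYdec] at hmem
    obtain ⟨e', he', v, hv, hsum⟩ := Submodule.mem_sup.1 hmem
    obtain ⟨s, rfl⟩ := Submodule.mem_span_singleton.1 hv
    obtain ⟨m, rfl⟩ := mem_line.1 (hEu he')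
    rw [← hsum, polar_add_left, polar_smul_left, S.polar_smul_smul, H.uu, mul_zero, map_zero, zero_add,
      S.polar_eq, S.kb_smul_right, hy₁u, mul_zero, map_zero, smul_zero]
  have hg' := H.kb_n_ne S hs hy'l hy'u
  obtain ⟨m, hm⟩ := mem_line.1 (mem_img.1 (hEY ((hZ k).1 hkZ)))
  refine ⟨c * H.ut S (-m / kb q τ y' n) * c⁻¹, M.mul_mem (M.mul_mem P.mem (H.ut_mem S hM _)) (M.inv_mem P.mem),
    fun d => ?_⟩
  obtain ⟨s, hsdef⟩ : ∃ s, s = τ (p * d) := ⟨_, rfl⟩
  have hdu : d • u = (d - s • d₀) • u + s • (d₀ • u) := by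
    rw [← smul_assoc, ← add_smul, sub_add_cancel]
  rw [← hsdef]
  conv_lhs => rw [hdu]
  have h1 : ∀ x ∈ img c (line L u), app (c * H.ut S (-m / kb q τ y' n) * c⁻¹) x = x := fun x hx => by
    rw [app_mul, app_mul, H.ut_line S _ (mem_img.1 hx), app_app_inv]
  rw [map_add, h1 _ (hEY ((hZ _).1 (hsdef ▸ hdec d))), map_smul, app_mul, app_mul, ← hy'def,
    H.ut_perp S hs _ hy'u, map_sub]
  have e2 : (-m / kb q τ y' n * kb q τ y' n) • u = -(app c⁻¹ (k • u)) := by
    rw [div_mul_cancel₀ _ hg', neg_smul, hm]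
  rw [e2, map_neg, app_app_inv, sub_neg_eq_add, hy'def, app_app_inv]
  rw [add_smul, sub_smul, smul_add, smul_assoc, smul_assoc]
  abel

end CfsgLib.ExtFieldThree
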