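import Cfsg.Agent.Lib.ExtFieldThree.Moved
import Cfsg.Agent.Lib.Solvable.CoprimeGeneration
import Mathlib.GroupTheory.Transfer

/-!
A moved line meeting in dimension two is impossible: the pointwise stabiliser of the intersection would have a
self-normalising abelian unipotent Sylow subgroup with no room for a complement.
-/

set_option autoImplicit false
set_option linter.unusedSectionVars false

namespace CfsgLib.ExtFieldThree

open Matrix QuadraticMap Module CfsgLib.Orth CfsgLib.ExtFieldOrth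

variable {F : Type*} [Field F] [Fintype F] {ι : Type} [Fintype ι] [DecidableEq ι]
  {L : Type*} [Field L] [Fintype L] [Algebra F L] [Module L (ι → F)] [IsScalarTower F L (ι → F)]
  {q : QuadraticForm F (ι → F)} {τ : L →ₗ[F] F} {u n w : ι → F} {M : Subgroup (O q)} {c : O q}

/-- The members of a subgroup fixing a subspace pointwise. -/
def fixing (M : Subgroup (O q)) (E : Submodule F (ι → F)) : Subgroup (O q) where
  carrier := {g | g ∈ M ∧ ∀ e ∈ E, app g e = e}
  one_mem' := ⟨M.one_mem, fun e _ => app_one e⟩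
  mul_mem' := fun {a b} ha hb => ⟨M.mul_mem ha.1 hb.1, fun e he => by rw [app_mul, hb.2 e he, ha.2 e he]⟩
  inv_mem' := fun {a} ha => ⟨M.inv_mem ha.1, fun e he => by conv_lhs => rw [← ha.2 e he, app_inv_app]⟩

theorem mem_fixing {E : Submodule F (ι → F)} {g : O q} :
    g ∈ fixing M E ↔ g ∈ M ∧ ∀ e ∈ E, app g e = e := Iff.rfl

theorem not_pair_two (S : Setup q τ) (hs : finrank L (ι → F) = 3) (hM : HasLin L M) (hMc : M ≤ commutator (O q))
    (hr : 3 ≤ finrank F L) (hno : ¬ commutator (O q) ≤ M) (P : IsPair q τ M u c) (hd : 2 ≤ dimE L u c) : False := by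
  have := S.finite
  obtain ⟨n, w, H⟩ := exists_frame S P.ne P.sing
  obtain ⟨E, hE⟩ : ∃ E, E = line L u ⊓ img c (line L u) := ⟨_, rfl⟩
  have hEu : E ≤ line L u := hE ▸ inf_le_left
  have hd' : 2 ≤ finrank F E := by rw [hE]; exact hd
  -- two independent fixed vectors on the line
  obtain ⟨k₀, k₁, hk₀, hk₁, he₀, he₁⟩ : ∃ k₀ k₁ : L, k₀ ≠ 0 ∧ (∀ t : F, t • k₀ ≠ k₁) ∧
      k₀ • u ∈ E ∧ k₁ • u ∈ E := by
    obtain ⟨Z, hZ, hZf⟩ := exists_coord P.ne hEu
    obtain ⟨k₀, hk₀, hk₀0⟩ := Submodule.exists_mem_ne_zero_of_ne_bot (p := Z) fun h => by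
      rw [h, finrank_bot] at hZf; omega
    obtain ⟨k₁, hk₁, hk₁'⟩ : ∃ k ∈ Z, k ∉ Submodule.span F {k₀} := by
      by_contra hc
      push Not at hc
      have h1 := Submodule.finrank_mono (show Z ≤ Submodule.span F {k₀} from hc)
      rw [finrank_span_singleton hk₀0] at h1
      omega
    exact ⟨k₀, k₁, hk₀0, fun t ht => hk₁' (Submodule.mem_span_singleton.2 ⟨t, ht⟩), (hZ _).1 hk₀, (hZ _).1 hk₁⟩
  obtain ⟨G, hG⟩ : ∃ G : Subgroup (O q), G = fixing M E := ⟨_, rfl⟩
  have hmem : ∀ g, g ∈ G ↔ g ∈ M ∧ ∀ e ∈ E, app g e = e := fun g => by rw [hG]; exact mem_fixing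
  let φ : Multiplicative L →* G :=
    { toFun := fun t => ⟨H.ut S t.toAdd, (hmem _).2 ⟨H.ut_mem S hM _, fun e he => H.ut_line S _ (hEu he)⟩⟩
      map_one' := Subtype.ext (H.ut_zero S)
      map_mul' := fun s t => Subtype.ext (H.ut_add S _ _) }
  have hφ : ∀ t, ((φ t : G) : O q) = H.ut S t.toAdd := fun _ => rfl
  have hφinj : Function.Injective φ := by
    refine (injective_iff_map_eq_one φ).2 fun t ht => ?_
    by_contra h0
    have h1 : app (H.ut S t.toAdd) w = w := by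
      rw [← hφ, ht, OneMemClass.coe_one, app_one]
    have h2 := ((H.mem_line_iff S hs).1 (H.fix_ut_mem S hs (fun h => h0 (toAdd_eq_zero.1 h)) h1)).1
    rw [H.wu S] at h2
    exact one_ne_zero h2
  obtain ⟨U, hU⟩ : ∃ U : Subgroup G, U = φ.range := ⟨_, rfl⟩
  have hUcard : Nat.card U = Nat.card L := by
    rw [hU, ← Nat.card_congr (MonoidHom.ofInjective hφinj).toEquiv]
    exact Nat.card_congr Multiplicative.toAdd
  obtain ⟨p, hchar⟩ := CharP.exists L
  have hp : Fact p.Prime := ⟨CharP.char_is_prime L p⟩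
  obtain ⟨m, -, hm⟩ := FiniteField.card L p
  rw [← Nat.card_eq_fintype_card] at hm
  haveI : Finite G := Finite.of_injective _ Subtype.val_injective
  have hUp : IsPGroup p U := IsPGroup.of_card (hUcard.trans hm)
  have hUcomm : IsMulCommutative U := ⟨⟨fun a b => Subtype.ext (by
    obtain ⟨s, hs'⟩ : (a : G) ∈ φ.range := hU ▸ a.2
    obtain ⟨t, ht'⟩ : (b : G) ∈ φ.range := hU ▸ b.2
    rw [Subgroup.coe_mul, Subgroup.coe_mul, ← hs', ← ht', ← map_mul, ← map_mul, mul_comm])⟩⟩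
  have hUne : ∀ a : G, a ∈ U → a ≠ 1 → ∃ t : L, t ≠ 0 ∧ (a : O q) = H.ut S t := fun a ha ha1 => by
    obtain ⟨t, rfl⟩ : a ∈ φ.range := hU ▸ ha
    exact ⟨t.toAdd, fun h => ha1 (by rw [toAdd_eq_zero.1 h, map_one]), hφ t⟩
  -- an element carrying one unipotent to another lies in `U`
  have hkey : ∀ g : G, ∀ a, a ∈ U → a ≠ 1 → g * a * g⁻¹ ∈ U → g ∈ U := fun g a ha ha1 hb => by
    obtain ⟨s, hs0, hsa⟩ := hUne a ha ha1
    obtain ⟨t, ht0, htb⟩ := hUne _ hb fun h => ha1 (conj_eq_one_iff.1 h)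
    rw [Subgroup.coe_mul, Subgroup.coe_mul, Subgroup.coe_inv, hsa] at htb
    have himg : img (g : O q) (line L u) = line L u := by
      refine Submodule.eq_of_le_of_finrank_eq ?_ (finrank_img _ _)
      rintro _ ⟨x, hx, rfl⟩
      refine H.fix_ut_mem S hs ht0 ?_
      rw [← htb, app_mul, app_mul, app_inv_app, H.ut_line S s hx]
    obtain ⟨r, hr'⟩ := stab_fix S hs H hM hr hno ((hmem _).1 g.2).1 (hMc ((hmem _).1 g.2).1) himg hk₀ hk₁
      (((hmem _).1 g.2).2 _ he₀) (((hmem _).1 g.2).2 _ he₁)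
    rw [hU]
    exact ⟨Multiplicative.ofAdd r, Subtype.ext hr'.symm⟩
  have hL1 : 1 < Nat.card L := Finite.one_lt_card
  have hm0 : 1 ≤ (m : ℕ) := m.2
  obtain ⟨a₁, ha₁, ha₁1⟩ : ∃ a ∈ U, a ≠ 1 := by
    refine (Subgroup.ne_bot_iff_exists_ne_one.1 fun h => ?_).imp' (fun a : U => (a : G))
      fun a ha => ⟨a.2, fun h => ha (Subtype.ext h)⟩
    rw [h, Subgroup.card_bot] at hUcard
    omega
  have hN : Subgroup.normalizer (U : Set G) ≤ U := fun g hg =>
    hkey g a₁ ha₁ ha₁1 ((Subgroup.mem_normalizer_iff.1 hg a₁).1 ha₁)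
  have hidx : ¬ p ∣ U.index := fun h => by
    have h1 : p ^ ((m : ℕ) + 1) ∣ Nat.card G := by
      rw [← Subgroup.card_mul_index U, hUcard, hm, pow_succ]
      exact Nat.mul_dvd_mul_left _ h
    have h2 := Sylow.prime_pow_dvd_card_normalizer h1 (hUcard.trans hm)
    have h3 : Nat.card (Subgroup.normalizer (U : Set G)) ≤ Nat.card U :=
      Nat.card_le_card_of_injective _ (Subgroup.inclusion_injective hN)
    rw [hUcard, hm] at h3
    have h4 := Nat.le_of_dvd Nat.card_pos h2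
    have h5 : p ^ (m : ℕ) < p ^ ((m : ℕ) + 1) := Nat.pow_lt_pow_right hp.out.one_lt (by omega)
    omega
  have hPc : Subgroup.normalizer ((hUp.toSylow hidx : Subgroup G) : Set G) ≤
      Subgroup.centralizer ((hUp.toSylow hidx : Subgroup G) : Set G) := by
    rw [IsPGroup.toSylow_coe]
    refine hN.trans fun a ha => Subgroup.mem_centralizer_iff.2 fun b hb => ?_
    exact congrArg Subtype.val (hUcomm.is_comm.comm ⟨b, hb⟩ ⟨a, ha⟩)
  obtain ⟨K, hK⟩ : ∃ K, K = (MonoidHom.transferSylow (hUp.toSylow hidx) hPc).ker := ⟨_, rfl⟩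
  have hKU : Subgroup.IsComplement' K U := by
    rw [hK]; exact MonoidHom.ker_transferSylow_isComplement' _ hPc
  have hKn : K.Normal := hK ▸ MonoidHom.normal_ker _
  have hcard : Nat.card K * Nat.card U = Nat.card G := hKU.card_mul
  have hKidx : Nat.card K = U.index := by
    refine Nat.eq_of_mul_eq_mul_right (Nat.card_pos : 0 < Nat.card U) ?_
    rw [hcard, mul_comm, Subgroup.card_mul_index]
  have hcop : (Nat.card U).Coprime (Nat.card K) := by
    rw [hKidx, hUcard, hm]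
    exact Nat.Coprime.pow_left _ ((Nat.Prime.coprime_iff_not_dvd hp.out).2 hidx)
  have hnc : ¬ IsCyclic U := fun hcyc => by
    obtain ⟨g, hg⟩ := IsCyclic.exists_ofOrder_eq_natCard (α := U)
    have hgp : g ^ p = 1 := Subtype.ext (by
      obtain ⟨t, ht⟩ : (g : G) ∈ φ.range := hU ▸ g.2
      rw [SubgroupClass.coe_pow, OneMemClass.coe_one, ← ht, ← map_pow]
      refine (congrArg φ (Multiplicative.toAdd.injective ?_)).trans (map_one φ)
      rw [toAdd_pow, toAdd_one, nsmul_eq_mul, CharP.cast_eq_zero, zero_mul])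
    have h1 := orderOf_dvd_of_pow_eq_one hgp
    rw [hg, hUcard] at h1
    rcases (Nat.dvd_prime hp.out).1 h1 with h2 | h2
    · omega
    · have h3 := Module.card_eq_pow_finrank (K := F) (V := L)
      rw [← Nat.card_eq_fintype_card, h2] at h3
      exact Nat.Prime.not_prime_pow (by omega) (h3 ▸ hp.out)
  have hgen := CfsgLib.CoprimeGeneration.iSup_centralizer_eq U K hnc
    (by rw [Subgroup.normalizer_eq_top]; exact le_top) hcop
  have hKbot : K = ⊥ := by
    rw [← hgen, eq_bot_iff]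
    refine iSup₂_le fun a ha x hx => ?_
    obtain ⟨hxK, hxa⟩ := Subgroup.mem_inf.1 hx
    have h1 : x * a * x⁻¹ = a := by
      rw [← Subgroup.mem_centralizer_iff.1 hxa a (Set.mem_singleton a), mul_inv_cancel_right]
    exact hKU.disjoint.le_bot ⟨hxK, hkey x a ha.1 ha.2 (by rw [h1]; exact ha.1)⟩
  have hUtop : ∀ g : G, g ∈ U := fun g => by
    have h1 : Nat.card U = Nat.card G := by rw [← hcard, hKbot, Subgroup.card_bot, one_mul]
    rw [(Subgroup.card_eq_iff_eq_top U).1 h1]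
    exact Subgroup.mem_top g
  -- a conjugate unipotent lies in `G`
  have hT : c * H.ut S 1 * c⁻¹ ∈ G := (hmem _).2
    ⟨M.mul_mem (M.mul_mem P.mem (H.ut_mem S hM 1)) (M.inv_mem P.mem), fun e he => by
      rw [app_mul, app_mul, H.ut_line S 1 (mem_img.1 (show e ∈ img c (line L u) from (hE ▸ he : e ∈ line L u ⊓ _).2)),
        app_app_inv]⟩
  obtain ⟨t, ht0, ht⟩ := hUne ⟨_, hT⟩ (hUtop _) fun h => by
    have h1 : H.ut S 1 = 1 := conj_eq_one_iff.1 (congrArg Subtype.val h)
    have h2 : φ (Multiplicative.ofAdd 1) = 1 := Subtype.ext h1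
    have h3 := hφinj (h2.trans (map_one φ).symm)
    exact one_ne_zero (α := L) (congrArg Multiplicative.toAdd h3)
  refine P.move (Submodule.eq_of_le_of_finrank_eq ?_ (finrank_img _ _))
  rintro _ ⟨x, hx, rfl⟩
  refine H.fix_ut_mem S hs ht0 ?_
  rw [← ht]
  change app (c * H.ut S 1 * c⁻¹) (app c x) = app c x
  rw [app_mul, app_mul, app_inv_app, H.ut_line S 1 hx]

end CfsgLib.ExtFieldThree
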